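import Groth.Agent.Lib.RInv29.Diag

/-!
# Skew-hermitian matrices: hyperbolic blocks
-/

set_option autoImplicit false
set_option linter.style.haveILetI false

universe u v

open Matrix

namespace RInv29

variable {A : Type v} [CommRing A] {lam : A ≃+* A}

/-- the matrix consists of blocks on `{2k, 2k+1}` congruent to the standard alternating one -/
def IsBlocks {n : ℕ} (N : Matrix (Fin n) (Fin n) A) : Prop :=
  ∀ i j : Fin n,
    (i.val / 2 ≠ j.val / 2 → N i j = 0) ∧
    (i.val / 2 = j.val / 2 → (Even i.val ↔ Even j.val) → N i j ∈ Ring.jacobson A) ∧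
    (i.val / 2 = j.val / 2 → Even i.val → ¬ Even j.val → N i j - 1 ∈ Ring.jacobson A) ∧
    (i.val / 2 = j.val / 2 → ¬ Even i.val → Even j.val → N i j + 1 ∈ Ring.jacobson A)

theorem exists_blocks (hl : Function.Involutive lam) [IsLocalRing A] (hid : ∀ a : A, lam a - a ∈ Ring.jacobson A)
    (h2 : IsUnit (2 : A)) : ∀ (n : ℕ) (h : Matrix (Fin n) (Fin n) A), IsUnit h.det → (-1 : A) • ctr lam h = h →
      Even n ∧ ∃ N, HC lam h N ∧ IsBlocks N := by
  intro n
  induction n using Nat.twoStepInduction with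
  | zero => exact fun h _ _ => ⟨Even.zero, h, ⟨1, by simp, by simp [ctr]⟩, fun i => i.elim0⟩
  | one =>
    intro h hh herm
    exfalso
    obtain ⟨i, x, hx, hu⟩ := hasUnit_of_odd hid (ε := (-1 : A)) (by rw [neg_add_cancel]; exact Submodule.zero_mem _)
      odd_one hh herm
    have hi : i = 0 := Subsingleton.elim _ _
    subst hi
    have hm : -lam (h 0 0) = h 0 0 := by simpa [ctr] using congrFun (congrFun herm 0) 0
    have hu' : IsUnit (h 0 0) := by
      simp [dotProduct, Matrix.mulVec, hx] at hu
      exact hu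
    have h4 : (2 : A) * h 0 0 ∈ Ring.jacobson A := by
      have := Submodule.neg_mem _ (hid (h 0 0))
      rwa [show -(lam (h 0 0) - h 0 0) = 2 * h 0 0 by linear_combination hm] at this
    exact (IsLocalRing.mem_maximalIdeal _).1 (mem_jacobson_iff.1 h4 _ (IsLocalRing.maximalIdeal.isMaximal A)) (h2.mul hu')
  | more n ih _ =>
    intro h hh herm
    have hJ : ∀ x : A, ¬ IsUnit x → x ∈ Ring.jacobson A := fun x hx => mem_jacobson_iff.2 fun q hq => by
      rw [IsLocalRing.eq_maximalIdeal hq]; exact (IsLocalRing.mem_maximalIdeal _).2 hx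
    have hm : ∀ i j, -lam (h j i) = h i j := fun i j => by
      simpa [ctr] using congrFun (congrFun herm i) j
    have hdiag : ∀ i, ¬ IsUnit (h i i) := fun i hu => by
      have h4 : (2 : A) * h i i ∈ Ring.jacobson A := by
        have := Submodule.neg_mem _ (hid (h i i))
        rwa [show -(lam (h i i) - h i i) = 2 * h i i by linear_combination hm i i] at this
      exact (IsLocalRing.mem_maximalIdeal _).1 (mem_jacobson_iff.1 h4 _ (IsLocalRing.maximalIdeal.isMaximal A)) (h2.mul hu)
    obtain ⟨k, hk⟩ : ∃ k, IsUnit (h 0 k) := by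
      by_contra hc
      push Not at hc
      refine (IsLocalRing.mem_maximalIdeal h.det).1 ?_ hh
      rw [Matrix.det_succ_row_zero]
      exact Ideal.sum_mem _ fun k _ => Ideal.mul_mem_right _ _ (Ideal.mul_mem_left _ _ (hc k))
    have hk0 : k ≠ 0 := by rintro rfl; exact hdiag 0 hk
    obtain ⟨w, hw⟩ := hk.exists_left_inv
    let e : Fin 2 ⊕ Fin n ≃ Fin (n + 2) := finSumFinEquiv.trans (finCongr (Nat.add_comm 2 n))
    let σ : Equiv.Perm (Fin (n + 2)) := Equiv.swap 1 k
    let V : Matrix (Fin (n + 2)) (Fin (n + 2)) A :=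
      (1 : Matrix _ _ A).submatrix id σ * Matrix.diagonal fun q => if q = 1 then w else 1
    have hVu : IsUnit V.det := by
      rw [Matrix.det_mul, Matrix.det_permute', Matrix.det_one, mul_one, Matrix.det_diagonal]
      refine IsUnit.mul ?_ (IsUnit.prod_iff.2 fun q _ => ?_)
      · exact (Units.isUnit (Equiv.Perm.sign σ)).map (Int.castRingHom A)
      · split_ifs
        · exact IsUnit.of_mul_eq_one _ hw
        · exact isUnit_one
    have hV : ∀ a b, (ctr lam V * h * V) a b =
        (if a = 1 then lam w else 1) * h (σ a) (σ b) * (if b = 1 then w else 1) := by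
      intro a b
      have hVab : ∀ x y, V x y = if x = σ y then (if y = 1 then w else 1) else 0 := fun x y => by
        simp only [V, Matrix.mul_diagonal, Matrix.submatrix_apply, id_eq, Matrix.one_apply, ite_mul, one_mul, zero_mul]
      simp only [Matrix.mul_apply, ctr, Matrix.transpose_apply, Matrix.map_apply, hVab, apply_ite lam, map_zero,
        map_one, mul_ite, mul_zero, ite_mul, zero_mul, Finset.sum_ite_eq', Finset.mem_univ, if_true]
    let M := (ctr lam V * h * V).submatrix e e
    have hM0 : HC lam h (ctr lam V * h * V) := ⟨V, hVu, rfl⟩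
    have hM : HC lam (h.submatrix e e) M := hM0.submatrix e
    have e0 : e (Sum.inl 0) = 0 := by ext; simp [e]
    have e1 : e (Sum.inl 1) = 1 := by ext; simp [e]
    have hσ0 : σ 0 = 0 := Equiv.swap_apply_of_ne_of_ne (by simp) (Ne.symm hk0)
    have hσ1 : σ 1 = k := Equiv.swap_apply_left _ _
    have herm' : (-1 : A) • ctr lam M = M := by
      refine hM.herm hl ?_
      conv_rhs => rw [← herm]
      rfl
    have h01 : M (Sum.inl 0) (Sum.inl 1) = 1 := by
      simp [M, hV, e0, e1, hσ0, hσ1]; linear_combination hw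
    have h10 : M (Sum.inl 1) (Sum.inl 0) = -1 := by
      have h1 := congrFun (congrFun herm' (Sum.inl 1)) (Sum.inl 0)
      simp only [ctr, Matrix.smul_apply, Matrix.transpose_apply, Matrix.map_apply, smul_eq_mul, h01, map_one] at h1
      rw [← h1, mul_one]
    have hnu : ∀ a : Fin 2, M (Sum.inl a) (Sum.inl a) ∈ Ring.jacobson A := fun a => by
      refine hJ _ fun hu => ?_
      simp only [M, Matrix.submatrix_apply, hV] at hu
      exact hdiag _ (isUnit_of_mul_isUnit_right (isUnit_of_mul_isUnit_left hu))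
    set B := M.toBlocks₁₂
    set C := M.toBlocks₂₁
    set D := M.toBlocks₂₂
    set A0 := M.toBlocks₁₁ with hA0
    have hA0u : IsUnit A0.det := by
      rw [Matrix.det_fin_two]
      simp only [hA0, Matrix.toBlocks₁₁, Matrix.of_apply, h01, h10, one_mul, sub_neg_eq_add]
      by_contra hc
      refine (IsLocalRing.maximalIdeal.isMaximal A).ne_top ((Ideal.eq_top_iff_one _).2 ?_)
      have := Ideal.sub_mem _ ((IsLocalRing.mem_maximalIdeal _).2 hc)
        (Ideal.mul_mem_right (M (Sum.inl 1) (Sum.inl 1)) _ (mem_jacobson_iff.1 (hnu 0) _ (IsLocalRing.maximalIdeal.isMaximal A)))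
      simpa using this
    have hA : (-1 : A) • ctr lam A0 = A0 := by
      ext a b; exact congrFun (congrFun herm' (Sum.inl a)) (Sum.inl b)
    have hC : (-1 : A) • ctr lam B = C := by
      ext a b; exact congrFun (congrFun herm' (Sum.inr a)) (Sum.inl b)
    have hAi : ctr lam A0⁻¹ = -A0⁻¹ := by
      have h1 : ctr lam A0⁻¹ * ctr lam A0 = 1 := by rw [← ctr_mul, Matrix.mul_nonsing_inv A0 hA0u, ctr_one]
      have h2' : ctr lam A0 = -A0 := by conv_rhs => rw [← hA, neg_one_smul, neg_neg]
      rw [h2', Matrix.mul_neg] at h1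
      calc ctr lam A0⁻¹ = ctr lam A0⁻¹ * (A0 * A0⁻¹) := by rw [Matrix.mul_nonsing_inv A0 hA0u, Matrix.mul_one]
        _ = -A0⁻¹ := by
          rw [← Matrix.mul_assoc, ← neg_neg (ctr lam A0⁻¹ * A0), h1, Matrix.neg_mul, Matrix.one_mul]
    let R : Matrix (Fin 2 ⊕ Fin n) (Fin 2 ⊕ Fin n) A := Matrix.fromBlocks 1 (-(A0⁻¹ * B)) 0 1
    have hR : HC lam M (Matrix.fromBlocks A0 0 0 (D - C * A0⁻¹ * B)) := by
      refine ⟨R, by simp [R, Matrix.det_fromBlocks_zero₂₁], ?_⟩
      have hX : ((-(A0⁻¹ * B)).map lam).transpose = -(C * A0⁻¹) := by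
        rw [Matrix.map_neg _ (map_neg lam), Matrix.transpose_neg,
          show (A0⁻¹ * B).map lam = A0⁻¹.map lam * B.map lam from Matrix.map_mul (f := lam.toRingHom),
          Matrix.transpose_mul, ← hC]
        change -(ctr lam B * ctr lam A0⁻¹) = _
        rw [hAi]; simp
      rw [show ctr lam R = Matrix.fromBlocks 1 0 (-(C * A0⁻¹)) 1 by
        rw [ctr, Matrix.fromBlocks_map, Matrix.fromBlocks_transpose, Matrix.map_zero _ (map_zero lam), hX,
          Matrix.map_one _ (map_zero lam) (map_one lam), Matrix.map_one _ (map_zero lam) (map_one lam)]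
        simp]
      nth_rewrite 1 [← Matrix.fromBlocks_toBlocks M]
      change _ * Matrix.fromBlocks A0 B C D * _ = _
      simp only [R, Matrix.fromBlocks_multiply, Matrix.one_mul, Matrix.zero_mul, Matrix.mul_one, Matrix.mul_zero,
        add_zero, Matrix.neg_mul, Matrix.mul_neg, Matrix.mul_assoc,
        Matrix.nonsing_inv_mul A0 hA0u, Matrix.mul_nonsing_inv_cancel_left A0 _ hA0u,
        Matrix.nonsing_inv_mul_cancel_left A0 _ hA0u]
      congr 1 <;> simp [sub_eq_neg_add]
    have hd := hM.trans hR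
    have hh' : IsUnit (h.submatrix e e).det := by rwa [Matrix.det_submatrix_equiv_self]
    have hSdet : IsUnit (D - C * A0⁻¹ * B).det := by
      have := hd.isUnit_det hh'
      rw [Matrix.det_fromBlocks_zero₁₂] at this
      exact isUnit_of_mul_isUnit_right this
    have hSh : (-1 : A) • ctr lam (D - C * A0⁻¹ * B) = D - C * A0⁻¹ * B := by
      ext a b
      exact congrFun (congrFun (hR.herm hl herm') (Sum.inr a)) (Sum.inr b)
    obtain ⟨hev, N, ⟨v, hv, hvN⟩, hN⟩ := ih _ hSdet hSh
    refine ⟨by simpa [Nat.even_add] using hev, (Matrix.fromBlocks A0 0 0 N).submatrix e.symm e.symm, ?_, ?_⟩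
    · have h2 : HC lam (Matrix.fromBlocks A0 0 0 (D - C * A0⁻¹ * B)) (Matrix.fromBlocks A0 0 0 N) := by
        refine ⟨Matrix.fromBlocks 1 0 0 v, by simpa [Matrix.det_fromBlocks_zero₁₂] using hv, ?_⟩
        rw [ctr, Matrix.fromBlocks_map, Matrix.fromBlocks_transpose, Matrix.map_zero _ (map_zero lam),
          Matrix.map_zero _ (map_zero lam), Matrix.map_one _ (map_zero lam) (map_one lam),
          Matrix.fromBlocks_multiply, Matrix.fromBlocks_multiply]
        simp [← hvN, ctr]
      have h3 := (hd.trans h2).submatrix e.symm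
      rwa [Matrix.submatrix_submatrix, Equiv.self_comp_symm, Matrix.submatrix_id_id] at h3
    · intro i j
      obtain ⟨p, rfl⟩ := e.surjective i
      obtain ⟨q, rfl⟩ := e.surjective j
      simp only [Matrix.submatrix_apply, Equiv.symm_apply_apply]
      rcases p with a | a <;> rcases q with b | b
      · fin_cases a <;> fin_cases b <;>
          simp [e, hA0, Matrix.toBlocks₁₁, h01, h10, hnu 0, hnu 1]
      · simp [e]; omega
      · simp [e]; omega
      · obtain ⟨n1, n2, n3, n4⟩ := hN a b
        simp only [e, Equiv.trans_apply, finSumFinEquiv_apply_right, finCongr_apply, Fin.val_cast, Fin.val_natAdd,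
          Nat.add_comm 2, Nat.add_div_right _ (Nat.zero_lt_two), Nat.succ_eq_add_one, add_left_inj, ne_eq,
          Nat.even_add, even_two, iff_true, Matrix.fromBlocks_apply₂₂]
        exact ⟨n1, n2, n3, n4⟩

end RInv29
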