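import Groth.Agent.Lib.RInv29.Skew

/-!
# Hyperbolic planes after adjoining a square root
-/

set_option autoImplicit false
set_option linter.style.haveILetI false

universe u v

open Matrix

namespace RInv29

variable {T : Type v} [CommRing T]

theorem exists_congr_stdJ (σ : T →+* T) {a b d s0 : T} (ha : σ a = -a) (hd : σ d = -d) (hb : IsUnit b)
    (hs : σ s0 = s0) (hσσ : σ (σ b) = b) (hsq : s0 * s0 * (b * σ b) = b * σ b + d * a) (h2 : IsUnit (2 : T))
    (h1 : IsUnit (1 + s0)) (h0 : IsUnit s0) :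
    ∃ v : Matrix (Fin 2) (Fin 2) T, IsUnit v ∧
      (v.map σ).transpose * !![a, b; -σ b, d] * v = !![0, 1; -1, 0] := by
  obtain ⟨β, hβ⟩ := hb.exists_left_inv
  obtain ⟨u, hu⟩ := h1.exists_left_inv
  obtain ⟨m', hm⟩ := h0.exists_left_inv
  obtain ⟨half, hh⟩ := h2.exists_left_inv
  -- normalise the off-diagonal entry
  have hβ' : σ β * σ b = 1 := by rw [← map_mul, hβ, map_one]
  set d' := σ β * β * d with hd'
  have hσβ : σ (σ β) = β := by
    have e1 : σ (σ β) * b = 1 := by rw [← hσσ, ← map_mul, hβ', map_one]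
    linear_combination β * e1 - σ (σ β) * hβ
  have hd'σ : σ d' = -d' := by rw [hd', map_mul, map_mul, hd, hσβ]; ring
  have hsq' : s0 * s0 = 1 + d' * a := by
    rw [hd']; linear_combination (β * σ β) * hsq - (σ β * σ b * (s0 * s0 - 1)) * hβ - (s0 * s0 - 1) * hβ'
  set η := -(a * u) with hη
  set μ := d' * half * m' with hμ
  have hu' : σ u = u := by
    have e1 : σ u * (1 + s0) = 1 := by
      have := congrArg σ hu; rwa [map_mul, map_add, map_one, hs] at this
    linear_combination u * e1 - σ u * hu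
  have hm' : σ m' = m' := by
    have e1 : σ m' * s0 = 1 := by
      have := congrArg σ hm; rwa [map_mul, map_one, hs] at this
    linear_combination m' * e1 - σ m' * hm
  have hh' : σ half = half := by
    have e1 : σ half * 2 = 1 := by
      have := congrArg σ hh; rwa [map_mul, map_one, map_ofNat] at this
    linear_combination half * e1 - σ half * hh
  have hσd' : σ η = -η := by rw [hη, map_neg, map_mul, ha, hu']; ring
  have hσμ : σ μ = -μ := by rw [hμ, map_mul, map_mul, hd'σ, hh', hm']; ring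
  have hq : a + 2 * η - d' * η * η = 0 := by
    rw [hη]; linear_combination (a * u * u) * hsq' - a * (1 + (s0 - 1) * u) * hu
  have hmd : 1 - d' * η = s0 := by
    rw [hη]; linear_combination (-u) * hsq' + (s0 - 1) * hu
  have hp : σ (μ * m') = -(μ * m') := by rw [map_mul, hσμ, hm']; ring
  have hqq : σ ((1 + μ * η) * m') = (1 + μ * η) * m' := by rw [map_mul, map_add, map_mul, map_one, hσμ, hσd', hm']; ring
  have key : ∀ x0 x1 y0 y1 : T, σ x0 * (a * y0 + b * (β * y1)) + σ (β * x1) * (-σ b * y0 + d * (β * y1)) =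
      σ x0 * (a * y0 + y1) + σ x1 * (-y0 + d' * y1) := fun x0 x1 y0 y1 => by
    rw [map_mul, hd']
    linear_combination (σ x0 * y1) * hβ - (σ x1 * y0) * hβ'
  refine ⟨Matrix.diagonal ![1, β] * !![1, μ * m'; η, (1 + μ * η) * m'], ?_, ?_⟩
  · rw [Matrix.isUnit_iff_isUnit_det, Matrix.det_mul, Matrix.det_diagonal, Matrix.det_fin_two_of, Fin.prod_univ_two]
    simp only [Matrix.cons_val_zero, Matrix.cons_val_one, one_mul]
    refine (IsUnit.of_mul_eq_one _ hβ).mul ?_
    rw [show (1 + μ * η) * m' - μ * m' * η = m' by ring]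
    exact IsUnit.of_mul_eq_one _ hm
  · have hv : Matrix.diagonal ![1, β] * !![1, μ * m'; η, (1 + μ * η) * m'] = !![1, μ * m'; β * η, β * ((1 + μ * η) * m')] := by
      ext i j; fin_cases i <;> fin_cases j <;> simp
    rw [hv]
    ext i j
    set p := μ * m' with hpd
    set q := (1 + μ * η) * m' with hqd
    have hentry : ∀ x0 x1 y0 y1 : T, ∀ i' j' : Fin 2, ∀ w : Matrix (Fin 2) (Fin 2) T, w 0 i' = x0 → w 1 i' = β * x1 →
        w 0 j' = y0 → w 1 j' = β * y1 →
        ((w.map σ).transpose * !![a, b; -σ b, d] * w) i' j' = σ x0 * (a * y0 + y1) + σ x1 * (-y0 + d' * y1) := by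
      intro x0 x1 y0 y1 i' j' w e1 e2 e3 e4
      rw [← key]
      simp [Matrix.mul_apply, Fin.sum_univ_two, e1, e2, e3, e4]
      ring
    fin_cases i <;> fin_cases j
    · refine (hentry 1 η 1 η 0 0 _ rfl rfl rfl rfl).trans ?_
      rw [map_one, hσd']; simp; linear_combination hq
    · refine (hentry 1 η p q 0 1 _ rfl rfl rfl rfl).trans ?_
      rw [map_one, hσd']; simp; rw [hpd, hqd]; linear_combination m' * hmd + (μ * m') * hq + hm
    · refine (hentry p q 1 η 1 0 _ rfl rfl rfl rfl).trans ?_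
      rw [hp, hqq]; simp; rw [hpd, hqd]; linear_combination (-m') * hmd - (μ * m') * hq - hm
    · refine (hentry p q p q 1 1 _ rfl rfl rfl rfl).trans ?_
      rw [hp, hqq]; simp; rw [hpd, hqd]
      linear_combination (-(μ * μ * m' * m')) * hq + (-2 * μ * m' * m') * hmd - (d' * m' * m') * (m' * s0) * hh - (d' * m' * m') * hm

end RInv29
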