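import Groth.Agent.Lib.RInv29.Branch
import Groth.Agent.Lib.Hens.EssEtale

/-!
# Involutions over a strictly henselian fixed ring
-/

set_option autoImplicit false
set_option linter.style.haveILetI false

universe u v

open Polynomial

namespace RInv29

theorem henselian_of_ringEquiv {A : Type u} [CommRing A] [hA : HenselianLocalRing A] {B : Type v} [CommRing B]
    (e : A ≃+* B) : HenselianLocalRing B := by
  haveI : IsLocalRing B := e.isLocalRing
  refine { is_henselian := fun f hf a₀ h1 h2 => ?_ }
  have hmem : ∀ x : B, x ∈ IsLocalRing.maximalIdeal B ↔ e.symm x ∈ IsLocalRing.maximalIdeal A := fun x => by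
    simp [IsLocalRing.mem_maximalIdeal, mem_nonunits_iff]
  have hev : ∀ (g : B[X]) (x : B), (g.map e.symm.toRingHom).eval (e.symm x) = e.symm (g.eval x) := fun g x => by
    rw [Polynomial.eval_map]; exact Polynomial.eval₂_at_apply e.symm.toRingHom x
  obtain ⟨a, ha, ha'⟩ := HenselianLocalRing.is_henselian (f.map e.symm.toRingHom) (hf.map _) (e.symm a₀)
    (by rw [hev]; exact (hmem _).1 h1)
    (by rw [Polynomial.derivative_map, hev]; exact h2.map _)
  refine ⟨e a, ?_, ?_⟩
  · have h3 := hev f (e a)
    rw [e.symm_apply_apply] at h3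
    exact (map_eq_zero_iff _ e.symm.injective).1 (h3.symm.trans ha)
  · rw [hmem, map_sub, e.symm_apply_apply]; exact ha'

theorem isSepClosed_of_ringEquiv {k : Type u} [Field k] [IsSepClosed k] {l : Type v} [Field l] (e : k ≃+* l) :
    IsSepClosed l := by
  refine IsSepClosed.of_exists_root _ fun p hm hp hs => ?_
  obtain ⟨x, hx⟩ := IsSepClosed.exists_root (p.map e.symm.toRingHom) (by
    rw [Polynomial.degree_map]; exact (Polynomial.degree_pos_of_irreducible hp).ne') (hs.map)
  refine ⟨e x, (map_eq_zero_iff _ e.symm.injective).1 ?_⟩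
  rw [Polynomial.IsRoot, Polynomial.eval_map] at hx
  have h2 := (Polynomial.eval₂_at_apply (p := p) e.symm.toRingHom (e x)).symm
  rw [show e.symm.toRingHom (e x) = x from e.symm_apply_apply x] at h2
  exact h2.trans hx

variable {S : Type u} {R : Type v} [CommRing S] [CommRing R] [Algebra S R] {lam : R ≃+* R}

theorem exists_pi_henselian [HenselianLocalRing S] [IsSepClosed (IsLocalRing.ResidueField S)]
    (hl : Function.Involutive lam) (hS : RInv.IsFixedRing S R lam) :
    ∃ (ι : Type) (_ : Fintype ι) (T : ι → Type v) (_ : ∀ i, CommRing (T i))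
      (_ : ∀ i, HenselianLocalRing (T i)),
      (∀ i, IsSepClosed (IsLocalRing.ResidueField (T i))) ∧ Nonempty (R ≃+* (∀ i, T i)) := by
  classical
  -- a copy of `S` in the universe of `R`
  let S0 : Type v := (algebraMap S R).range
  letI : CommRing S0 := inferInstanceAs (CommRing (algebraMap S R).range)
  let e0 : S ≃+* S0 := RingEquiv.ofBijective (algebraMap S R).rangeRestrict
    ⟨fun a b h => hS.1 (congrArg Subtype.val h), (algebraMap S R).rangeRestrict_surjective⟩
  haveI hS0 : HenselianLocalRing S0 := henselian_of_ringEquiv e0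
  haveI : IsSepClosed (IsLocalRing.ResidueField S0) := isSepClosed_of_ringEquiv (IsLocalRing.ResidueField.mapEquiv e0)
  by_cases h : ∀ r : R, lam r - r ∈ Ring.jacobson R
  · haveI := isLocalRing_of_forall hl hS h
    letI : Algebra S0 R := (algebraMap S R).range.subtype.toAlgebra
    haveI hint := isIntegral hl hS
    haveI : Algebra.IsIntegral S0 R := ⟨fun x => by
      obtain ⟨P, hP, hP0⟩ := hint.isIntegral x
      refine ⟨P.map e0.toRingHom, hP.map _, ?_⟩
      rw [Polynomial.eval₂_map]; exact hP0⟩
    haveI := Groth.Agent.Hens.henselianLocalRing_of_isIntegral S0 R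
    haveI : IsLocalHom (algebraMap S0 R) := (algebraMap_isIntegral_iff.2 ‹_›).isLocalHom (by
      exact fun a b h => Subtype.ext h)
    haveI : Algebra.IsIntegral (IsLocalRing.ResidueField S0) (IsLocalRing.ResidueField R) := ⟨fun x => by
      obtain ⟨y, rfl⟩ := IsLocalRing.residue_surjective x
      obtain ⟨P, hP, hP0⟩ := Algebra.IsIntegral.isIntegral (R := S0) y
      refine ⟨P.map (IsLocalRing.residue S0), hP.map _, ?_⟩
      have h3 := congrArg (IsLocalRing.residue R) hP0
      rw [map_zero, Polynomial.hom_eval₂] at h3
      rw [Polynomial.eval₂_map]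
      exact h3⟩
    haveI : Algebra.IsAlgebraic (IsLocalRing.ResidueField S0) (IsLocalRing.ResidueField R) := inferInstance
    have hsep := Groth.Agent.Hens.isSepClosed_of_isAlgebraic (IsLocalRing.ResidueField S0) (IsLocalRing.ResidueField R)
    exact ⟨Unit, inferInstance, fun _ => R, fun _ => inferInstance, fun _ => inferInstance, fun _ => hsep,
      ⟨(RingEquiv.piUnique fun _ : Unit => R).symm⟩⟩
  · push Not at h
    obtain ⟨r, hr⟩ := exists_unit_of_notMem_jacobson hl hS h
    obtain ⟨t, ht⟩ := exists_add hl hS r
    obtain ⟨n, hn⟩ := exists_mul hl hS r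
    let f : S[X] := Polynomial.X ^ 2 - (Polynomial.C t * Polynomial.X - Polynomial.C n)
    have hfm : f.Monic := Polynomial.monic_X_pow_sub (by compute_degree!)
    have hdeg : f.natDegree = 2 := by simp only [f]; compute_degree!
    haveI := nontrivial hS
    obtain ⟨q, hq⟩ := Ideal.exists_maximal R
    have hdisc : IsUnit (t * t - 4 * n) := by
      by_contra hu
      have hmem : t * t - 4 * n ∈ IsLocalRing.maximalIdeal S := hu
      haveI := nontrivial hS
      rw [← comap_maximal hl hS q, Ideal.mem_comap, map_sub, map_mul, map_mul, map_ofNat, ht, hn] at hmem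
      rw [show (r + lam r) * (r + lam r) - 4 * (r * lam r) = (r - lam r) * (r - lam r) by ring] at hmem
      exact hq.ne_top (Ideal.eq_top_of_isUnit_mem q hmem (hr.mul hr))
    let π := IsLocalRing.residue S
    have hbez : ∀ x : S, (2 * x - t) * (2 * x - t) - 4 * (x * x - (t * x - n)) = t * t - 4 * n := fun x => by ring
    have hsep : (f.map π).Separable := by
      obtain ⟨w, hw⟩ := (hdisc.map π).exists_left_inv
      rw [Polynomial.separable_def']
      refine ⟨Polynomial.C (-4 * w), Polynomial.C w * (2 * Polynomial.X - Polynomial.C (π t)), ?_⟩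
      have hC := congrArg Polynomial.C hw
      simp only [map_sub, map_mul, map_ofNat, map_one, map_neg] at hC
      simp only [f, Polynomial.map_sub, Polynomial.map_mul, Polynomial.map_pow, Polynomial.map_X, Polynomial.map_C,
        Polynomial.derivative_sub, Polynomial.derivative_X_pow, Polynomial.derivative_C_mul, Polynomial.derivative_X,
        Polynomial.derivative_C, map_sub, map_mul, map_ofNat, map_neg, sub_zero, mul_one]
      norm_num
      simp only [map_ofNat]
      linear_combination hC
    obtain ⟨a0, ha0⟩ := IsSepClosed.exists_root (f.map π) (by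
      rw [Polynomial.degree_eq_natDegree (hfm.map π).ne_zero, hfm.natDegree_map, hdeg]; norm_num) hsep
    obtain ⟨a1, rfl⟩ := IsLocalRing.residue_surjective a0
    have hev : f.eval a1 ∈ IsLocalRing.maximalIdeal S := by
      rw [← IsLocalRing.residue_eq_zero_iff, ← Polynomial.eval₂_at_apply, ← Polynomial.eval_map]
      exact ha0
    have hder : IsUnit (f.derivative.eval a1) := by
      by_contra hu
      have hu' : f.derivative.eval a1 ∈ IsLocalRing.maximalIdeal S := hu
      refine hdisc.map π |>.ne_zero ?_
      rw [← hbez a1]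
      simp only [f, Polynomial.derivative_sub, Polynomial.derivative_X_pow, Polynomial.derivative_C_mul,
        Polynomial.derivative_X, Polynomial.derivative_C, Polynomial.eval_sub, Polynomial.eval_mul,
        Polynomial.eval_pow, Polynomial.eval_X, Polynomial.eval_C, sub_zero, mul_one, pow_one] at hu' hev
      norm_num at hu'
      rw [IsLocalRing.residue_eq_zero_iff]
      refine Ideal.sub_mem _ (Ideal.mul_mem_left _ _ hu') (Ideal.mul_mem_left _ _ ?_)
      rwa [← sq]
    obtain ⟨α, hα, hα'⟩ := HenselianLocalRing.is_henselian f hfm a1 hev hder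
    have hroot : α * α - (t * α - n) = 0 := by
      simpa [f, Polynomial.IsRoot, sq] using hα
    set β := t - α
    have hαβ : IsUnit (α - β) := by
      have h1 : (α - β) * (α - β) = t * t - 4 * n := by
        rw [← hbez α, hroot, mul_zero, sub_zero]; ring
      exact isUnit_of_mul_isUnit_left (h1 ▸ hdisc)
    obtain ⟨e, he⟩ := hr.exists_left_inv
    have hle : lam e = -e := by
      have h1 := congrArg lam he
      rw [map_mul, map_sub, hl, map_one] at h1
      linear_combination (-lam e) * he + (-e) * h1
    -- the two coordinate maps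
    have hex : ∀ x : R, ∃ ab : S × S, algebraMap S R ab.1 + algebraMap S R ab.2 * r = x := fun x => by
      obtain ⟨a, ha⟩ := (hS.2 (x - (x - lam x) * e * r)).1 (by
        rw [map_sub, map_mul, map_mul, map_sub, hl, hle]
        linear_combination (x - lam x) * he)
      obtain ⟨b, hb⟩ := (hS.2 ((x - lam x) * e)).1 (by
        rw [map_mul, map_sub, hl, hle]; ring)
      exact ⟨(a, b), by rw [ha, hb]; ring⟩
    choose co hco using hex
    have huniq : ∀ a b a' b' : S, algebraMap S R a + algebraMap S R b * r = algebraMap S R a' + algebraMap S R b' * r →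
        a = a' ∧ b = b' := fun a b a' b' hab => by
      have h1 := congrArg lam hab
      simp only [map_add, map_mul, lam_algebraMap hS] at h1
      have hb : b = b' := hS.1 (by linear_combination e * hab - e * h1 - (algebraMap S R b - algebraMap S R b') * he)
      subst hb
      exact ⟨hS.1 (add_right_cancel hab), rfl⟩
    let ev : S → R → S := fun γ x => (co x).1 + (co x).2 * γ
    have hev1 : ∀ γ, ev γ 1 = 1 := fun γ => by
      obtain ⟨h1, h2⟩ := huniq _ _ 1 0 ((hco 1).trans (by simp))
      simp [ev, h1, h2]
    have hadd : ∀ γ x y, ev γ (x + y) = ev γ x + ev γ y := fun γ x y => by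
      obtain ⟨h1, h2⟩ := huniq _ _ ((co x).1 + (co y).1) ((co x).2 + (co y).2) ((hco (x + y)).trans (by
        simp only [map_add]; linear_combination (-1 : R) * hco x - hco y))
      simp only [ev, h1, h2]; ring
    have hrr : r * r = algebraMap S R t * r - algebraMap S R n := by rw [ht, hn]; ring
    have hmul : ∀ γ, γ * γ - (t * γ - n) = 0 → ∀ x y, ev γ (x * y) = ev γ x * ev γ y := fun γ hγ x y => by
      obtain ⟨h1, h2⟩ := huniq _ _ ((co x).1 * (co y).1 - (co x).2 * (co y).2 * n)
        ((co x).1 * (co y).2 + (co x).2 * (co y).1 + (co x).2 * (co y).2 * t) ((hco (x * y)).trans (by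
        conv_lhs => rw [← hco x, ← hco y]
        simp only [map_add, map_mul, map_sub]
        linear_combination (algebraMap S R (co x).2 * algebraMap S R (co y).2) * hrr))
      simp only [ev, h1, h2]
      linear_combination (-(co x).2 * (co y).2) * hγ
    have hβroot : β * β - (t * β - n) = 0 := by rw [← hroot]; ring
    let F : R →+* (Fin 2 → S) :=
      { toFun := fun x => ![ev α x, ev β x]
        map_one' := by ext i; fin_cases i <;> simp [hev1]
        map_mul' := fun x y => by ext i; fin_cases i <;> simp [hmul _ hroot, hmul _ hβroot]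
        map_zero' := by
          ext i
          have h0 : ∀ γ, ev γ 0 = 0 := fun γ => by simpa using hadd γ 0 0
          fin_cases i <;> simp [h0]
        map_add' := fun x y => by ext i; fin_cases i <;> simp [hadd] }
    have hF : Function.Bijective F := by
      obtain ⟨w, hw⟩ := hαβ.exists_left_inv
      constructor
      · intro x y hxy
        have h0 := congrFun hxy 0
        have h1 := congrFun hxy 1
        simp only [F, ev, RingHom.coe_mk, MonoidHom.coe_mk, OneHom.coe_mk, Matrix.cons_val_zero, Matrix.cons_val_one] at h0 h1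
        have hb : (co x).2 = (co y).2 := by linear_combination w * h0 - w * h1 - ((co x).2 - (co y).2) * hw
        rw [hb] at h0
        rw [← hco x, ← hco y, hb, add_right_cancel h0]
      · intro z
        refine ⟨algebraMap S R (z 0 - (z 0 - z 1) * w * α) + algebraMap S R ((z 0 - z 1) * w) * r, ?_⟩
        obtain ⟨h1, h2⟩ := huniq _ _ _ _ (hco (algebraMap S R (z 0 - (z 0 - z 1) * w * α) + algebraMap S R ((z 0 - z 1) * w) * r))
        ext i; fin_cases i
        · simp only [F, ev, RingHom.coe_mk, MonoidHom.coe_mk, OneHom.coe_mk, Fin.zero_eta, Fin.mk_one,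
            Matrix.cons_val_zero, Matrix.cons_val_one, h1, h2]
          ring
        · simp only [F, ev, RingHom.coe_mk, MonoidHom.coe_mk, OneHom.coe_mk, Fin.zero_eta, Fin.mk_one,
            Matrix.cons_val_zero, Matrix.cons_val_one, h1, h2]
          linear_combination (z 1 - z 0) * hw
    exact ⟨Fin 2, inferInstance, fun _ => S0, fun _ => inferInstance, fun _ => hS0, fun _ => inferInstance,
      ⟨(RingEquiv.ofBijective F hF).trans (RingEquiv.piCongrRight fun _ => e0)⟩⟩

end RInv29
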