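import Mathlib
import Groth.Prelude.Def_W4c2azumayainvolQEt

/-!
# Commutative rings with involution and their fixed rings
-/

set_option autoImplicit false
set_option linter.style.haveILetI false

universe u v w

open scoped TensorProduct

namespace RInv29

variable {S : Type u} {R : Type v} [CommRing S] [CommRing R] [Algebra S R] {lam : R ≃+* R}

theorem lam_algebraMap (hS : RInv.IsFixedRing S R lam) (s : S) : lam (algebraMap S R s) = algebraMap S R s :=
  (hS.2 _).2 ⟨s, rfl⟩

theorem exists_add (hl : Function.Involutive lam) (hS : RInv.IsFixedRing S R lam) (x : R) :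
    ∃ s, algebraMap S R s = x + lam x :=
  (hS.2 _).1 (by rw [map_add, hl, add_comm])

theorem exists_mul (hl : Function.Involutive lam) (hS : RInv.IsFixedRing S R lam) (x : R) :
    ∃ s, algebraMap S R s = x * lam x :=
  (hS.2 _).1 (by rw [map_mul, hl, mul_comm])

theorem isIntegral (hl : Function.Involutive lam) (hS : RInv.IsFixedRing S R lam) : Algebra.IsIntegral S R := by
  refine ⟨fun x => ?_⟩
  obtain ⟨s, hs⟩ := exists_add hl hS x
  obtain ⟨p, hp⟩ := exists_mul hl hS x
  refine ⟨Polynomial.X ^ 2 - (Polynomial.C s * Polynomial.X - Polynomial.C p),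
    Polynomial.monic_X_pow_sub (by compute_degree!), ?_⟩
  simp only [Polynomial.eval₂_sub, Polynomial.eval₂_mul, Polynomial.eval₂_X_pow, Polynomial.eval₂_C,
    Polynomial.eval₂_X, hs, hp]
  ring

/-- the conjugate prime -/
abbrev conjIdeal (lam : R ≃+* R) (q : Ideal R) : Ideal R := q.comap (lam : R →+* R)

theorem mem_conj {q : Ideal R} {x : R} : x ∈ conjIdeal lam q ↔ lam x ∈ q := Iff.rfl

theorem comap_conj (hS : RInv.IsFixedRing S R lam) (q : Ideal R) :
    (conjIdeal lam q).comap (algebraMap S R) = q.comap (algebraMap S R) := by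
  ext s
  simp [mem_conj, lam_algebraMap hS]

theorem over_eq (hl : Function.Involutive lam) (hS : RInv.IsFixedRing S R lam) (q q' : Ideal R) [q.IsPrime]
    [q'.IsPrime] (h : q'.comap (algebraMap S R) = q.comap (algebraMap S R)) :
    q' = q ∨ q' = conjIdeal lam q := by
  haveI := isIntegral hl hS
  haveI : (conjIdeal lam q).IsPrime := Ideal.comap_isPrime _ _
  have hsub : (q' : Set R) ⊆ (q : Set R) ∪ (conjIdeal lam q : Set R) := by
    intro x hx
    obtain ⟨s, hs⟩ := exists_mul hl hS x
    have h1 : algebraMap S R s ∈ q' := by rw [hs]; exact q'.mul_mem_right _ hx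
    have h2 : algebraMap S R s ∈ q := (SetLike.ext_iff.1 h s).1 h1
    rw [hs] at h2
    exact (‹q.IsPrime›.mem_or_mem h2)
  rcases Ideal.subset_union.1 hsub with hle | hle
  · exact Or.inl (hle.eq_or_lt.resolve_right fun hlt => (Ideal.IsIntegral.comap_lt_comap hlt).ne h)
  · exact Or.inr (hle.eq_or_lt.resolve_right fun hlt => (Ideal.IsIntegral.comap_lt_comap hlt).ne
      (h.trans (comap_conj hS q).symm))

theorem exists_over (hl : Function.Involutive lam) (hS : RInv.IsFixedRing S R lam) (p : Ideal S) [p.IsPrime] :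
    ∃ q : Ideal R, q.IsPrime ∧ q.comap (algebraMap S R) = p := by
  haveI := isIntegral hl hS
  obtain ⟨q, -, hq, hqp⟩ := Ideal.exists_ideal_over_prime_of_isIntegral p (⊥ : Ideal R) (by
    rw [← RingHom.ker_eq_comap_bot, (RingHom.injective_iff_ker_eq_bot _).1 hS.1]; exact bot_le)
  exact ⟨q, hq, hqp⟩

theorem nontrivial (hS : RInv.IsFixedRing S R lam) [Nontrivial S] : Nontrivial R := hS.1.nontrivial

section Local

variable [IsLocalRing S]

theorem comap_maximal (hl : Function.Involutive lam) (hS : RInv.IsFixedRing S R lam) (q : Ideal R) [q.IsMaximal] :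
    q.comap (algebraMap S R) = IsLocalRing.maximalIdeal S := by
  haveI := isIntegral hl hS
  exact IsLocalRing.eq_maximalIdeal (Ideal.isMaximal_comap_of_isIntegral_of_isMaximal q)

theorem maximal_eq (hl : Function.Involutive lam) (hS : RInv.IsFixedRing S R lam) (q q' : Ideal R) [q.IsMaximal]
    [q'.IsMaximal] : q' = q ∨ q' = conjIdeal lam q :=
  over_eq hl hS q q' (by rw [comap_maximal hl hS q, comap_maximal hl hS q'])

theorem mem_jacobson_iff {x : R} : x ∈ Ring.jacobson R ↔ ∀ q : Ideal R, q.IsMaximal → x ∈ q := by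
  rw [Ring.jacobson_eq_sInf_isMaximal, Submodule.mem_sInf]
  rfl

theorem exists_unit_of_notMem_jacobson (hl : Function.Involutive lam) (hS : RInv.IsFixedRing S R lam)
    (h : ∃ r : R, lam r - r ∉ Ring.jacobson R) : ∃ r : R, IsUnit (r - lam r) := by
  obtain ⟨r, hr⟩ := h
  rw [mem_jacobson_iff] at hr
  push Not at hr
  obtain ⟨q, hq, hqr⟩ := hr
  refine ⟨r, by_contra fun hu => ?_⟩
  obtain ⟨q', hq', hmem⟩ := exists_max_ideal_of_mem_nonunits hu
  rcases maximal_eq hl hS q q' with rfl | rfl
  · exact hqr (by simpa using q'.neg_mem hmem)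
  · rw [mem_conj, map_sub, hl] at hmem
    exact hqr hmem

theorem isLocalRing_of_forall (hl : Function.Involutive lam) (hS : RInv.IsFixedRing S R lam)
    (h : ∀ r : R, lam r - r ∈ Ring.jacobson R) : IsLocalRing R := by
  haveI := nontrivial hS
  obtain ⟨q, hq⟩ := Ideal.exists_maximal R
  refine IsLocalRing.of_unique_max_ideal ⟨q, hq, fun q' hq' => ?_⟩
  have key : conjIdeal lam q = q := by
    ext x
    rw [mem_conj]
    have hx := mem_jacobson_iff.1 (h x) q hq
    exact ⟨fun h1 => by simpa using q.sub_mem h1 hx, fun h1 => by simpa using q.add_mem hx h1⟩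
  rcases maximal_eq hl hS q q' with h' | h'
  · exact h'
  · exact h'.trans key

theorem map_le_jacobson (hl : Function.Involutive lam) (hS : RInv.IsFixedRing S R lam) :
    (IsLocalRing.maximalIdeal S).map (algebraMap S R) ≤ Ring.jacobson R := by
  refine Ideal.map_le_iff_le_comap.2 fun s hs => mem_jacobson_iff.2 fun q hq => ?_
  rw [← comap_maximal hl hS q] at hs
  exact hs

end Local

/-- the decomposition `R = S ⊕ S r` -/
theorem isQuadEtale_of_unit (hl : Function.Involutive lam) (hS : RInv.IsFixedRing S R lam) {r : R}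
    (hr : IsUnit (r - lam r)) : RInv.IsQuadEtale S R := by
  obtain ⟨e, he⟩ := hr.exists_left_inv
  have hle : lam e = -e := by
    have h1 := congrArg lam he
    rw [map_mul, map_sub, hl, map_one] at h1
    linear_combination (-lam e) * he + (-e) * h1
  let φ : S × S →ₗ[S] R :=
    { toFun := fun p => algebraMap S R p.1 + algebraMap S R p.2 * r
      map_add' := fun p p' => by simp only [Prod.fst_add, Prod.snd_add, map_add]; ring
      map_smul' := fun c p => by
        simp only [Prod.smul_fst, Prod.smul_snd, smul_eq_mul, map_mul, RingHom.id_apply]; rw [Algebra.smul_def]; ring }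
  have hb : ∀ p : S × S, algebraMap S R p.2 = (φ p - lam (φ p)) * e := fun p => by
    simp only [φ, LinearMap.coe_mk, AddHom.coe_mk, map_add, map_mul, lam_algebraMap hS]
    linear_combination (-algebraMap S R p.2) * he
  have hinj : Function.Injective φ := by
    intro p p' h
    have h2 : p.2 = p'.2 := hS.1 (by rw [hb, hb, h])
    refine Prod.ext (hS.1 ?_) h2
    simp only [φ, LinearMap.coe_mk, AddHom.coe_mk] at h
    rw [h2] at h
    exact add_right_cancel h
  have hsurj : Function.Surjective φ := by
    intro x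
    obtain ⟨b, hb'⟩ := (hS.2 ((x - lam x) * e)).1 (by
      rw [map_mul, map_sub, hl, hle]; ring)
    obtain ⟨a, ha⟩ := (hS.2 (x - algebraMap S R b * r)).1 (by
      rw [map_sub, map_mul, lam_algebraMap hS]
      linear_combination (r - lam r) * hb' + (x - lam x) * he)
    exact ⟨(a, b), by simp only [φ, LinearMap.coe_mk, AddHom.coe_mk, ha]; ring⟩
  let eφ := LinearEquiv.ofBijective φ ⟨hinj, hsurj⟩
  haveI : Module.Finite S R := Module.Finite.equiv eφ
  haveI : Module.Projective S R := Module.Projective.of_equiv eφ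
  refine ⟨inferInstance, inferInstance, ⟨?_⟩, fun p => ?_⟩
  · obtain ⟨t, ht⟩ := exists_add hl hS r
    obtain ⟨n, hn⟩ := exists_mul hl hS r
    have hD : (r - lam r) • KaehlerDifferential.D S R r = 0 := by
      have hrel : r * r = algebraMap S R t * r - algebraMap S R n := by rw [ht, hn]; ring
      have h1 := congrArg (KaehlerDifferential.D S R) hrel
      rw [Derivation.leibniz, map_sub, Derivation.leibniz, Derivation.map_algebraMap, Derivation.map_algebraMap,
        smul_zero, add_zero, sub_zero, ← add_smul] at h1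
      rw [show r - lam r = r + r - algebraMap S R t by rw [ht]; ring, sub_smul, h1, sub_self]
    have hDr : KaehlerDifferential.D S R r = 0 := by
      rw [← one_smul R (KaehlerDifferential.D S R r), ← he, mul_smul, hD, smul_zero]
    refine subsingleton_of_forall_eq 0 fun x => ?_
    have hx : x ∈ Submodule.span R (Set.range (KaehlerDifferential.D S R)) := by
      rw [KaehlerDifferential.span_range_derivation]; trivial
    induction hx using Submodule.span_induction with
    | mem x hx =>
      obtain ⟨y, rfl⟩ := hx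
      obtain ⟨⟨a, b⟩, rfl⟩ := hsurj y
      simp [φ, Derivation.leibniz, hDr]
    | zero => rfl
    | add x y _ _ hx hy => rw [hx, hy, add_zero]
    | smul c x _ hx => rw [hx, smul_zero]
  · haveI : Nontrivial S := p.nontrivial
    haveI : Module.Free S R := Module.Free.of_equiv eφ
    rw [Module.rankAtStalk_eq_finrank_of_free, ← eφ.finrank_eq]
    simp

/-- the quotient by the maximal ideal of a quadratic étale algebra over a local ring is reduced -/
theorem isReduced_quot [IsLocalRing S] (hq : RInv.IsQuadEtale S R) :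
    IsReduced (R ⧸ (IsLocalRing.maximalIdeal S).map (algebraMap S R)) := by
  obtain ⟨_, _, hu, _⟩ := hq
  letI : Field (S ⧸ IsLocalRing.maximalIdeal S) := Ideal.Quotient.field _
  haveI : Algebra.FormallyUnramified (S ⧸ IsLocalRing.maximalIdeal S)
      (R ⧸ (IsLocalRing.maximalIdeal S).map (algebraMap S R)) := Algebra.FormallyUnramified.of_restrictScalars S _ _
  haveI : Module.Finite (S ⧸ IsLocalRing.maximalIdeal S)
      (R ⧸ (IsLocalRing.maximalIdeal S).map (algebraMap S R)) := Module.Finite.of_restrictScalars_finite S _ _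
  exact Algebra.FormallyUnramified.isReduced_of_field (S ⧸ IsLocalRing.maximalIdeal S) _

theorem finrank_quot [IsLocalRing S] (hq : RInv.IsQuadEtale S R) :
    Module.finrank (S ⧸ IsLocalRing.maximalIdeal S) (R ⧸ (IsLocalRing.maximalIdeal S).map (algebraMap S R)) = 2 := by
  obtain ⟨_, _, -, hrk⟩ := hq
  haveI : Module.Free S R := Module.free_of_flat_of_isLocalRing
  letI : Field (S ⧸ IsLocalRing.maximalIdeal S) := Ideal.Quotient.field _
  have h2 : Module.finrank S R = 2 := by
    have h := hrk ⟨IsLocalRing.maximalIdeal S, inferInstance⟩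
    rwa [Module.rankAtStalk_eq_finrank_of_free] at h
  rw [← h2, ← Module.finrank_baseChange (R := S ⧸ IsLocalRing.maximalIdeal S) (S := S) (M' := R),
    (Algebra.TensorProduct.quotIdealMapEquivQuotTensor R (IsLocalRing.maximalIdeal S)).toLinearEquiv.finrank_eq]

theorem jacobson_eq [IsLocalRing S] (hq : RInv.IsQuadEtale S R) :
    Ring.jacobson R = (IsLocalRing.maximalIdeal S).map (algebraMap S R) := by
  haveI := isReduced_quot hq
  obtain ⟨_, _, -, -⟩ := hq
  set I := (IsLocalRing.maximalIdeal S).map (algebraMap S R)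
  letI : Field (S ⧸ IsLocalRing.maximalIdeal S) := Ideal.Quotient.field _
  haveI : Module.Finite (S ⧸ IsLocalRing.maximalIdeal S) (R ⧸ I) := Module.Finite.of_restrictScalars_finite S _ _
  haveI : IsArtinianRing (R ⧸ I) := IsArtinianRing.of_finite (S ⧸ IsLocalRing.maximalIdeal S) (R ⧸ I)
  refine le_antisymm ?_ (Ideal.map_le_iff_le_comap.2 fun s hs => ?_)
  · intro x hx
    rw [← Ideal.Quotient.eq_zero_iff_mem]
    have h0 : Ring.jacobson (R ⧸ I) = ⊥ := by
      rw [Ring.jacobson_eq_sInf_isMaximal, eq_bot_iff]
      intro y hy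
      have : y ∈ nilradical (R ⧸ I) := by
        rw [nilradical_eq_sInf, Ideal.mem_sInf]
        intro P hP
        haveI : P.IsPrime := hP
        exact Submodule.mem_sInf.1 hy P (IsArtinianRing.isMaximal_of_isPrime P)
      rw [nilradical_eq_zero] at this
      exact this
    have : Ideal.Quotient.mk I x ∈ Ring.jacobson (R ⧸ I) := by
      rw [mem_jacobson_iff] at hx ⊢
      intro P hP
      haveI := hP
      exact hx (P.comap (Ideal.Quotient.mk I)) (Ideal.comap_isMaximal_of_surjective _ Ideal.Quotient.mk_surjective)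
    rwa [h0] at this
  · refine mem_jacobson_iff.2 fun q hq' => ?_
    haveI : Algebra.IsIntegral S R := Algebra.IsIntegral.of_finite S R
    rw [← IsLocalRing.eq_maximalIdeal (Ideal.isMaximal_comap_of_isIntegral_of_isMaximal (R := S) q)] at hs
    exact hs

theorem exists_unit_of_quadEtale [IsLocalRing S] (hl : Function.Involutive lam) (hS : RInv.IsFixedRing S R lam)
    (hq : RInv.IsQuadEtale S R) : ∃ r : R, IsUnit (r - lam r) := by
  by_contra hno
  have htriv : ∀ r, lam r - r ∈ Ring.jacobson R := fun r =>
    by_contra fun hr => hno (exists_unit_of_notMem_jacobson hl hS ⟨r, hr⟩)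
  haveI := isLocalRing_of_forall hl hS htriv
  haveI := nontrivial hS
  have hjac := jacobson_eq hq
  haveI := isReduced_quot hq
  have hfr := finrank_quot hq
  obtain ⟨_, _, hu, _⟩ := hq
  set m := IsLocalRing.maximalIdeal S
  set I := m.map (algebraMap S R)
  letI : Field (S ⧸ m) := Ideal.Quotient.field _
  have hI : I = IsLocalRing.maximalIdeal R := by
    rw [← hjac, IsLocalRing.ringJacobson_eq_maximalIdeal]
  haveI : I.IsMaximal := hI ▸ IsLocalRing.maximalIdeal.isMaximal R
  letI : Field (R ⧸ I) := Ideal.Quotient.field _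
  haveI : Algebra.FormallyUnramified (S ⧸ m) (R ⧸ I) := Algebra.FormallyUnramified.of_restrictScalars S _ _
  haveI : Module.Finite (S ⧸ m) (R ⧸ I) := Module.Finite.of_restrictScalars_finite S _ _
  haveI hsep : Algebra.IsSeparable (S ⧸ m) (R ⧸ I) := Algebra.FormallyUnramified.isSeparable _ _
  have htop : ∀ x : R ⧸ I, x ∈ (algebraMap (S ⧸ m) (R ⧸ I)).range := by
    intro x
    obtain ⟨r, rfl⟩ := Ideal.Quotient.mk_surjective x
    by_contra hx
    obtain ⟨t, ht⟩ := exists_add hl hS r
    obtain ⟨n, hn⟩ := exists_mul hl hS r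
    have hlr : Ideal.Quotient.mk I (lam r) = Ideal.Quotient.mk I r :=
      (Ideal.Quotient.eq).2 (by have := htriv r; rwa [hjac] at this)
    set z := Ideal.Quotient.mk I r
    set p : Polynomial (S ⧸ m) :=
      Polynomial.X ^ 2 - (Polynomial.C (Ideal.Quotient.mk m t) * Polynomial.X - Polynomial.C (Ideal.Quotient.mk m n))
    have hpm : p.Monic := Polynomial.monic_X_pow_sub (by compute_degree!)
    have hmap : ∀ s : S, algebraMap (S ⧸ m) (R ⧸ I) (Ideal.Quotient.mk m s) = Ideal.Quotient.mk I (algebraMap S R s) :=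
      fun s => rfl
    have hp : Polynomial.aeval z p = 0 := by
      simp only [p, map_sub, map_mul, map_pow, Polynomial.aeval_X, Polynomial.aeval_C, hmap, ht, hn, map_add, hlr]
      ring
    have hdeg : p.natDegree = 2 := by simp only [p]; compute_degree!
    have hmin : minpoly (S ⧸ m) z = p := by
      have hint : IsIntegral (S ⧸ m) z := Algebra.IsIntegral.isIntegral z
      refine (Polynomial.eq_of_monic_of_dvd_of_natDegree_le (minpoly.monic hint) hpm (minpoly.dvd _ _ hp) ?_).symm
      rw [hdeg]
      exact minpoly.two_le_natDegree_iff hint |>.2 hx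
    have hz := (Algebra.IsSeparable.isSeparable (S ⧸ m) z).aeval_derivative_ne_zero
      (by rw [hmin, hp] : Polynomial.aeval z (minpoly (S ⧸ m) z) = 0)
    apply hz
    rw [hmin]
    simp only [p, Polynomial.derivative_sub, Polynomial.derivative_X_pow, Polynomial.derivative_C_mul,
      Polynomial.derivative_X, Polynomial.derivative_C, map_sub, map_mul, map_pow, Polynomial.aeval_X,
      Polynomial.aeval_C, hmap, ht, map_add, hlr, map_natCast]
    simp
    ring
  have hle : Module.finrank (S ⧸ m) (R ⧸ I) ≤ 1 := by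
    refine finrank_le_one 1 fun x => ?_
    obtain ⟨c, hc⟩ := htop x
    exact ⟨c, by rw [Algebra.smul_def, mul_one, hc]⟩
  have hcon := hfr.symm.trans_le hle
  omega

end RInv29
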