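import Groth.Agent.Lib.RInv29.Basic

/-!
# Base change and the branch locus
-/

set_option autoImplicit false
set_option linter.style.haveILetI false

universe u v w

open scoped TensorProduct

namespace RInv29

variable {S : Type u} {R : Type v} [CommRing S] [CommRing R] [Algebra S R]

theorem isFixedRing_baseChange (S' : Type w) [CommRing S'] [Algebra S S'] (lam : R ≃ₐ[S] R)
    (hl : Function.Involutive lam) (hS : RInv.IsFixedRing S R lam.toRingEquiv)
    (h : Module.Flat S S' ∨ IsUnit (2 : S)) :
    RInv.IsFixedRing S' (S' ⊗[S] R)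
      (Algebra.TensorProduct.congr (AlgEquiv.refl : S' ≃ₐ[S] S') lam).toRingEquiv := by
  set L := Algebra.TensorProduct.congr (AlgEquiv.refl : S' ≃ₐ[S] S') lam
  have hL : ∀ γ : S' ⊗[S] R, L γ = LinearMap.lTensor S' lam.toLinearMap γ := fun γ => by
    induction γ using TensorProduct.induction_on with
    | zero => simp
    | add x y hx hy => simp only [map_add, hx, hy]
    | tmul s r => simp [L]
  have hfix1 : ∀ s : S', L (algebraMap S' (S' ⊗[S] R) s) = algebraMap S' (S' ⊗[S] R) s := fun s => by
    simp [L, Algebra.TensorProduct.algebraMap_apply]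
  have hcan : ∀ c : S' ⊗[S] S, LinearMap.lTensor S' (Algebra.linearMap S R) c =
      algebraMap S' (S' ⊗[S] R) (TensorProduct.rid S S' c) := fun c => by
    induction c using TensorProduct.induction_on with
    | zero => simp
    | add x y hx hy => simp only [map_add, hx, hy]
    | tmul s a =>
      rw [LinearMap.lTensor_tmul, Algebra.linearMap_apply, TensorProduct.rid_tmul,
        Algebra.TensorProduct.algebraMap_apply, Algebra.algebraMap_self_apply, Algebra.algebraMap_eq_smul_one,
        TensorProduct.smul_tmul]
  rcases h with hflat | h2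
  · constructor
    · intro a b hab
      have h2 := Module.Flat.lTensor_preserves_injective_linearMap (M := S') (Algebra.linearMap S R) hS.1
      have := h2 (a₁ := a ⊗ₜ (1 : S)) (a₂ := b ⊗ₜ (1 : S)) (by rw [hcan, hcan]; simpa using hab)
      simpa using congrArg (TensorProduct.rid S S') this
    · intro γ
      constructor
      · intro hγ
        have hex : Function.Exact (Algebra.linearMap S R) (lam.toLinearMap - LinearMap.id : R →ₗ[S] R) := fun x => by
          rw [LinearMap.sub_apply, LinearMap.id_apply, sub_eq_zero]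
          exact hS.2 x
        obtain ⟨c, hc⟩ := ((Module.Flat.lTensor_exact S' hex) γ).1 (by
          rw [LinearMap.lTensor_sub, LinearMap.sub_apply, ← hL, show L γ = γ from hγ]; simp)
        exact ⟨_, (hcan c).symm.trans hc⟩
      · rintro ⟨s, rfl⟩; exact hfix1 s
  · obtain ⟨w, hw⟩ := h2.exists_left_inv
    have hfx : ∀ r : R, ∃ s, algebraMap S R s = algebraMap S R w * (r + lam r) := fun r =>
      (hS.2 _).1 (by
        show lam _ = _
        rw [map_mul, lam.commutes, map_add, hl r, add_comm (lam r) r])
    choose p hp using hfx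
    let P : R →ₗ[S] S :=
      { toFun := p
        map_add' := fun a b => hS.1 (by rw [map_add, hp, hp, hp, map_add]; ring)
        map_smul' := fun c a => hS.1 (by
          rw [RingHom.id_apply, smul_eq_mul, map_mul, hp, hp, map_smul, Algebra.smul_def, Algebra.smul_def]; ring) }
    have hP : ∀ γ : S' ⊗[S] R, LinearMap.lTensor S' (Algebra.linearMap S R) (LinearMap.lTensor S' P γ) =
        algebraMap S' (S' ⊗[S] R) (algebraMap S S' w) * (γ + L γ) := fun γ => by
      induction γ using TensorProduct.induction_on with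
      | zero => simp
      | add x y hx hy => simp only [map_add, hx, hy]; ring
      | tmul s r =>
        simp only [LinearMap.lTensor_tmul, P, LinearMap.coe_mk, AddHom.coe_mk, Algebra.linearMap_apply, hp, L,
          Algebra.TensorProduct.congr_apply, Algebra.TensorProduct.map_tmul,
          Algebra.TensorProduct.algebraMap_apply, ← TensorProduct.tmul_add]
        rw [Algebra.algebraMap_self_apply, mul_add, mul_add, Algebra.TensorProduct.tmul_mul_tmul,
          Algebra.TensorProduct.tmul_mul_tmul, one_mul, one_mul, TensorProduct.tmul_add]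
        congr 1 <;> rw [← Algebra.smul_def, ← TensorProduct.smul_tmul, Algebra.smul_def] <;> rfl
    have hP1 : ∀ s : S, P (algebraMap S R s) = s := fun s => hS.1 (by
      show algebraMap S R (p _) = _
      rw [hp, lam.commutes]
      have := congrArg (algebraMap S R) hw
      rw [map_mul, map_ofNat, map_one] at this
      linear_combination algebraMap S R s * this)
    constructor
    · intro a b hab
      have h1 : ∀ s : S', LinearMap.lTensor S' P (algebraMap S' (S' ⊗[S] R) s) = s ⊗ₜ (1 : S) := fun s => by
        rw [Algebra.TensorProduct.algebraMap_apply, LinearMap.lTensor_tmul, Algebra.algebraMap_self_apply,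
          ← map_one (algebraMap S R), hP1]
      have := congrArg (LinearMap.lTensor S' P) hab
      rw [h1, h1] at this
      simpa using congrArg (TensorProduct.rid S S') this
    · intro γ
      constructor
      · intro hγ
        refine ⟨TensorProduct.rid S S' (LinearMap.lTensor S' P γ), ?_⟩
        rw [← hcan, hP, show L γ = γ from hγ, ← two_mul, ← mul_assoc, ← map_ofNat (algebraMap S' (S' ⊗[S] R)) 2,
          ← map_mul, ← map_ofNat (algebraMap S S') 2, ← map_mul, hw, map_one, map_one, one_mul]
      · rintro ⟨s, rfl⟩; exact hfix1 s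

/-- a ring automorphism fixing the base, as an algebra automorphism -/
def toAlg {lam : R ≃+* R} (hS : RInv.IsFixedRing S R lam) : R ≃ₐ[S] R :=
  AlgEquiv.ofRingEquiv (f := lam) (lam_algebraMap hS)

variable {lam : R ≃+* R}

theorem isQuadEtale_bc_of_unit (hl : Function.Involutive lam) (hS : RInv.IsFixedRing S R lam) (S' : Type w)
    [CommRing S'] [Algebra S S'] [Module.Flat S S'] (r : R)
    (hu : IsUnit ((1 : S') ⊗ₜ[S] (r - lam r))) : RInv.IsQuadEtale S' (S' ⊗[S] R) := by
  have hfix := isFixedRing_baseChange S' (toAlg hS) hl hS (Or.inl inferInstance)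
  refine isQuadEtale_of_unit (lam := (Algebra.TensorProduct.congr (AlgEquiv.refl : S' ≃ₐ[S] S') (toAlg hS)).toRingEquiv)
    ?_ hfix (r := (1 : S') ⊗ₜ r) ?_
  · intro γ
    induction γ using TensorProduct.induction_on with
    | zero => simp
    | add x y hx hy => simp only [map_add, hx, hy]
    | tmul s a =>
      show s ⊗ₜ[S] lam (lam a) = _
      rw [hl]
  · show IsUnit ((1 : S') ⊗ₜ[S] r - (1 : S') ⊗ₜ[S] lam r)
    rwa [← TensorProduct.tmul_sub]

theorem unit_bc_of_unit_norm (hl : Function.Involutive lam) (hS : RInv.IsFixedRing S R lam) (S' : Type w)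
    [CommRing S'] [Algebra S S'] {d : R} {s : S} (hs : algebraMap S R s = d * lam d)
    (hu : IsUnit (algebraMap S S' s)) : IsUnit ((1 : S') ⊗ₜ[S] d) := by
  have h1 : ((1 : S') ⊗ₜ[S] d) * ((1 : S') ⊗ₜ[S] lam d) = algebraMap S' (S' ⊗[S] R) (algebraMap S S' s) := by
    rw [Algebra.TensorProduct.tmul_mul_tmul, mul_one, ← hs, Algebra.TensorProduct.algebraMap_apply,
      Algebra.algebraMap_self_apply, Algebra.algebraMap_eq_smul_one, Algebra.algebraMap_eq_smul_one,
      ← TensorProduct.smul_tmul]
  exact isUnit_of_mul_isUnit_left (h1 ▸ hu.map _)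

/-- the criterion for a quadratic étale point -/
theorem isQuadEtale_atPrime_iff (hl : Function.Involutive lam) (hS : RInv.IsFixedRing S R lam) (p : Ideal S)
    [p.IsPrime] :
    RInv.IsQuadEtale (Localization.AtPrime p) (Localization.AtPrime p ⊗[S] R) ↔
      ∃ (r : R) (s : S), algebraMap S R s = (r - lam r) * lam (r - lam r) ∧ s ∉ p := by
  constructor
  · intro hq
    let L := Localization.AtPrime p
    haveI : Module.Flat S L := IsLocalization.flat L p.primeCompl
    have hfix := isFixedRing_baseChange L (toAlg hS) hl hS (Or.inl inferInstance)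
    obtain ⟨r', hr'⟩ := exists_unit_of_quadEtale
      (lam := (Algebra.TensorProduct.congr (AlgEquiv.refl : L ≃ₐ[S] L) (toAlg hS)).toRingEquiv) (fun γ => by
        induction γ using TensorProduct.induction_on with
        | zero => simp
        | add x y hx hy => simp only [map_add, hx, hy]
        | tmul s a =>
          show s ⊗ₜ[S] lam (lam a) = _
          rw [hl]) hfix hq
    let f : R →ₗ[S] L ⊗[S] R := TensorProduct.mk S L R 1
    haveI : IsLocalizedModule p.primeCompl f :=
      (isLocalizedModule_iff_isBaseChange p.primeCompl L f).2 (TensorProduct.isBaseChange S R L)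
    obtain ⟨⟨r, c⟩, hc⟩ := IsLocalizedModule.surj p.primeCompl f r'
    replace hc : (c : S) • r' = (1 : L) ⊗ₜ[S] r := hc
    obtain ⟨s, hs⟩ := exists_mul hl hS (r - lam r)
    refine ⟨r, s, hs, fun hsp => ?_⟩
    have hu : IsUnit ((1 : L) ⊗ₜ[S] (r - lam r)) := by
      have h1 : (1 : L) ⊗ₜ[S] (r - lam r) =
          algebraMap S (L ⊗[S] R) c * (r' - (Algebra.TensorProduct.congr (AlgEquiv.refl : L ≃ₐ[S] L) (toAlg hS)) r') := by
        rw [← Algebra.smul_def, smul_sub, ← map_smul, hc, TensorProduct.tmul_sub]
        rfl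
      rw [h1]
      refine IsUnit.mul ?_ hr'
      rw [IsScalarTower.algebraMap_apply S L]
      exact (IsLocalization.map_units L c).map _
    obtain ⟨q, hqp, hqc⟩ := exists_over hl hS p
    haveI := hqp
    let κ := q.ResidueField
    have hunits : ∀ y : p.primeCompl, IsUnit (((Algebra.ofId R κ).toRingHom.comp (algebraMap S R)) y) := fun y => by
      exact IsUnit.mk0 _ fun h0 => y.2 ((SetLike.ext_iff.1 hqc (y : S)).1
        (show algebraMap S R (y : S) ∈ q from Ideal.algebraMap_residueField_eq_zero.1 h0))
    let g : L →+* κ := IsLocalization.lift (g := (Algebra.ofId R κ).toRingHom.comp (algebraMap S R)) hunits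
    let gA : L →ₐ[S] κ :=
      { g with
        commutes' := fun x => (IsLocalization.lift_eq hunits x).trans
          (IsScalarTower.algebraMap_apply S R κ x).symm }
    let G : L ⊗[S] R →ₐ[S] κ := Algebra.TensorProduct.lift gA (IsScalarTower.toAlgHom S R κ) fun _ _ => Commute.all _ _
    have h0 := hu.map G
    rw [Algebra.TensorProduct.lift_tmul, map_one, one_mul] at h0
    have hd : r - lam r ∉ q := fun hd => h0.ne_zero (Ideal.algebraMap_residueField_eq_zero.2 hd)
    have hdd : (r - lam r) * lam (r - lam r) ∈ q := by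
      rw [← hs]; rw [← hqc] at hsp; exact hsp
    rcases hqp.mem_or_mem hdd with h | h
    · exact hd h
    · rw [map_sub, hl] at h
      exact hd (by simpa using q.neg_mem h)
  · rintro ⟨r, s, hs, hsp⟩
    haveI : Module.Flat S (Localization.AtPrime p) := IsLocalization.flat _ p.primeCompl
    exact isQuadEtale_bc_of_unit hl hS _ r
      (unit_bc_of_unit_norm hl hS _ hs (IsLocalization.map_units (Localization.AtPrime p) (⟨s, hsp⟩ : p.primeCompl)))

theorem not_isQuadEtale_iff (hl : Function.Involutive lam) (hS : RInv.IsFixedRing S R lam) (p : Ideal S)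
    [p.IsPrime] :
    ¬ RInv.IsQuadEtale (Localization.AtPrime p) (Localization.AtPrime p ⊗[S] R) ↔
      ∀ q : Ideal R, q.IsPrime → q.comap (algebraMap S R) = p → ∀ r, lam r - r ∈ q := by
  rw [isQuadEtale_atPrime_iff hl hS p]
  constructor
  · intro h q hq hqp r
    push Not at h
    obtain ⟨s, hs⟩ := exists_mul hl hS (r - lam r)
    have hsp := h r s hs
    rw [← hqp, Ideal.mem_comap, hs] at hsp
    rcases hq.mem_or_mem hsp with h1 | h1
    · simpa using q.neg_mem h1
    · rw [map_sub, hl] at h1; exact h1
  · rintro h ⟨r, s, hs, hsp⟩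
    obtain ⟨q, hq, hqp⟩ := exists_over hl hS p
    refine hsp ?_
    rw [← hqp, Ideal.mem_comap, hs]
    exact q.mul_mem_right _ (by simpa using q.neg_mem (h q hq hqp r))

theorem over_unique (hl : Function.Involutive lam) (hS : RInv.IsFixedRing S R lam) (q q' : Ideal R) [q.IsPrime]
    [q'.IsPrime] (h : q'.comap (algebraMap S R) = q.comap (algebraMap S R)) (htriv : ∀ r, lam r - r ∈ q) :
    q' = q := by
  have key : conjIdeal lam q = q := by
    ext x
    rw [mem_conj]
    exact ⟨fun h1 => by simpa using q.sub_mem h1 (htriv x), fun h1 => by simpa using q.add_mem (htriv x) h1⟩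
  rcases over_eq hl hS q q' h with h' | h'
  · exact h'
  · exact h'.trans key

/-- the branch locus is closed -/
theorem branch_eq_zeroLocus (hl : Function.Involutive lam) (hS : RInv.IsFixedRing S R lam) :
    {p : PrimeSpectrum S | ¬ RInv.IsQuadEtale (Localization.AtPrime p.asIdeal) (Localization.AtPrime p.asIdeal ⊗[S] R)} =
      PrimeSpectrum.zeroLocus {s : S | ∃ r, algebraMap S R s = (r - lam r) * lam (r - lam r)} := by
  ext p
  rw [Set.mem_setOf_eq, isQuadEtale_atPrime_iff hl hS, PrimeSpectrum.mem_zeroLocus]
  push Not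
  exact ⟨fun h s ⟨r, hr⟩ => h r s hr, fun h r s hr => h ⟨r, hr⟩⟩

theorem sub_mem_of_le (hl : Function.Involutive lam) (hS : RInv.IsFixedRing S R lam) (q : Ideal R) [hq : q.IsPrime]
    (h : (PrimeSpectrum.vanishingIdeal {p : PrimeSpectrum S | ¬ RInv.IsQuadEtale (Localization.AtPrime p.asIdeal)
      (Localization.AtPrime p.asIdeal ⊗[S] R)}).map (algebraMap S R) ≤ q) (r : R) : lam r - r ∈ q := by
  obtain ⟨s, hs⟩ := exists_mul hl hS (r - lam r)
  have hsI : s ∈ PrimeSpectrum.vanishingIdeal {p : PrimeSpectrum S | ¬ RInv.IsQuadEtale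
      (Localization.AtPrime p.asIdeal) (Localization.AtPrime p.asIdeal ⊗[S] R)} := by
    rw [branch_eq_zeroLocus hl hS, PrimeSpectrum.mem_vanishingIdeal]
    exact fun p hp => hp ⟨r, hs⟩
  have := h (Ideal.mem_map_of_mem _ hsI)
  rw [hs] at this
  rcases hq.mem_or_mem this with h1 | h1
  · simpa using q.neg_mem h1
  · rw [map_sub, hl] at h1; exact h1

end RInv29
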