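import Groth.Agent.Lib.RInv29.Basic
import Groth.Agent.Lib.QuadH13.Disc

/-!
# Diagonalisation of hermitian matrices over a ring with involution with local fixed ring
-/

set_option autoImplicit false
set_option linter.style.haveILetI false

universe u v

open Matrix

namespace RInv29

variable {A : Type v} [CommRing A] {lam : A ≃+* A} {ι κ : Type} [Fintype ι] [DecidableEq ι] [Fintype κ] [DecidableEq κ]

/-- conjugate transpose -/
abbrev ctr (lam : A ≃+* A) {ι κ : Type} (M : Matrix ι κ A) : Matrix κ ι A := (M.map lam).transpose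

theorem ctr_mul (M N : Matrix ι ι A) : ctr lam (M * N) = ctr lam N * ctr lam M := by
  rw [ctr, show (M * N).map lam = M.map lam * N.map lam from Matrix.map_mul (f := lam.toRingHom), Matrix.transpose_mul]

theorem ctr_one : ctr lam (1 : Matrix ι ι A) = 1 := by
  rw [ctr, Matrix.map_one _ (map_zero lam) (map_one lam), Matrix.transpose_one]

theorem ctr_ctr (hl : Function.Involutive lam) (M : Matrix ι κ A) : ctr lam (ctr lam M) = M := by
  ext i j; exact hl (M i j)

theorem det_ctr (M : Matrix ι ι A) : (ctr lam M).det = lam M.det := by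
  rw [ctr, Matrix.det_transpose]; exact (RingEquiv.map_det lam M).symm

/-- congruence -/
def HC (lam : A ≃+* A) (h d : Matrix ι ι A) : Prop := ∃ v : Matrix ι ι A, IsUnit v.det ∧ ctr lam v * h * v = d

theorem HC.trans {h k d : Matrix ι ι A} : HC lam h k → HC lam k d → HC lam h d := by
  rintro ⟨v, hv, rfl⟩ ⟨w, hw, rfl⟩
  exact ⟨v * w, by rw [Matrix.det_mul]; exact hv.mul hw, by rw [ctr_mul]; simp only [Matrix.mul_assoc]⟩

theorem HC.submatrix {h d : Matrix ι ι A} (e : κ ≃ ι) : HC lam h d → HC lam (h.submatrix e e) (d.submatrix e e) := by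
  rintro ⟨v, hv, rfl⟩
  refine ⟨v.submatrix e e, by rwa [Matrix.det_submatrix_equiv_self], ?_⟩
  rw [show ctr lam (v.submatrix e e) = (ctr lam v).submatrix e e from rfl, Matrix.submatrix_mul_equiv,
    Matrix.submatrix_mul_equiv]

theorem HC.isUnit_det {h d : Matrix ι ι A} (hh : IsUnit h.det) : HC lam h d → IsUnit d.det := by
  rintro ⟨v, hv, rfl⟩
  rw [Matrix.det_mul, Matrix.det_mul, det_ctr]
  exact ((hv.map lam).mul hh).mul hv

theorem HC.herm (hl : Function.Involutive lam) {ε : A} {h d : Matrix ι ι A} (hε : ε • ctr lam h = h) :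
    HC lam h d → ε • ctr lam d = d := by
  rintro ⟨v, hv, rfl⟩
  rw [ctr_mul, ctr_mul, ctr_ctr hl]
  conv_rhs => rw [← hε]
  rw [Matrix.mul_smul, Matrix.smul_mul, Matrix.mul_assoc]

/-- some vector with a coordinate `1` takes a unit value -/
def HasUnit (lam : A ≃+* A) (h : Matrix ι ι A) : Prop :=
  ∃ (i : ι) (x : ι → A), x i = 1 ∧ IsUnit ((fun k => lam (x k)) ⬝ᵥ h *ᵥ x)

theorem hasUnit_of_diag {h : Matrix ι ι A} (i : ι) (hi : IsUnit (h i i)) : HasUnit lam h := by
  refine ⟨i, Pi.single i 1, by simp, ?_⟩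
  have hv : (fun k => lam ((Pi.single i (1 : A) : ι → A) k)) = (Pi.single i 1 : ι → A) := by
    funext k; simp [Pi.single_apply, apply_ite lam]
  rw [hv]
  simpa using hi

theorem exists_corner {n : ℕ} {h : Matrix (Fin (n + 1)) (Fin (n + 1)) A} (hP : HasUnit lam h) :
    ∃ (e : Fin 1 ⊕ Fin n ≃ Fin (n + 1)) (M : Matrix (Fin 1 ⊕ Fin n) (Fin 1 ⊕ Fin n) A),
      HC lam (h.submatrix e e) M ∧ IsUnit (M (Sum.inl 0) (Sum.inl 0)) := by
  obtain ⟨i, x, hx, hu⟩ := hP
  let e : Fin 1 ⊕ Fin n ≃ Fin (n + 1) :=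
    (finSumFinEquiv.trans (finCongr (Nat.add_comm 1 n))).trans (Equiv.swap 0 i)
  have he0 : e (Sum.inl 0) = i := by
    have : (finSumFinEquiv.trans (finCongr (Nat.add_comm 1 n))) (Sum.inl 0) = 0 := by ext; simp
    simp only [e, Equiv.trans_apply] at this ⊢
    rw [this, Equiv.swap_apply_left]
  let E : Matrix (Fin (n + 1)) (Fin (n + 1)) A := Matrix.updateCol 1 i x
  have hE : E.det = 1 := by
    have h1 := Matrix.cramer_apply (1 : Matrix (Fin (n + 1)) (Fin (n + 1)) A) x i
    rw [Matrix.cramer_one] at h1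
    exact h1.symm.trans hx
  refine ⟨e, _, HC.submatrix e ⟨E, hE ▸ isUnit_one, rfl⟩, ?_⟩
  rw [Matrix.submatrix_apply, he0]
  convert hu using 1
  simp only [E, Matrix.mul_apply, ctr, Matrix.transpose_apply, Matrix.map_apply, Matrix.updateCol_self, dotProduct,
    Matrix.mulVec, Finset.mul_sum, Finset.sum_mul]
  rw [Finset.sum_comm]
  exact Finset.sum_congr rfl fun a _ => Finset.sum_congr rfl fun b _ => by ring

theorem exists_schur (hl : Function.Involutive lam) {ε : A} (hε : ε * ε = 1) {n : ℕ}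
    {M : Matrix (Fin 1 ⊕ Fin n) (Fin 1 ⊕ Fin n) A} (hM : ε • ctr lam M = M) {w : A}
    (hw : w * M (Sum.inl 0) (Sum.inl 0) = 1) :
    HC lam M (Matrix.fromBlocks (M.toBlocks₁₁) 0 0
      (Matrix.of fun a b => M (Sum.inr a) (Sum.inr b) - M (Sum.inr a) (Sum.inl 0) * w * M (Sum.inl 0) (Sum.inr b))) := by
  let R : Matrix (Fin 1 ⊕ Fin n) (Fin 1 ⊕ Fin n) A :=
    Matrix.fromBlocks 1 (Matrix.of fun _ b => -(w * M (Sum.inl 0) (Sum.inr b))) 0 1
  have hm : ∀ p q, ε * lam (M q p) = M p q := fun p q => by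
    simpa [ctr] using congrFun (congrFun hM p) q
  refine ⟨R, by simp [R, Matrix.det_fromBlocks_zero₂₁], ?_⟩
  set c := M (Sum.inl 0) (Sum.inl 0) with hc
  have hcl : ε * lam c = c := hm _ _
  have hlw : lam w = ε * w := by
    have h1 : lam w * lam c = 1 := by rw [← map_mul, hw, map_one]
    linear_combination (ε * w) * h1 - lam w * w * hcl - lam w * hw
  ext p q
  rw [Matrix.mul_assoc, Matrix.mul_apply]
  simp only [Matrix.mul_apply, Fintype.sum_sum_type, Fin.sum_univ_one]
  rcases p with a | a <;> rcases q with b | b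
  · simp [R, ctr, Subsingleton.elim a 0, Subsingleton.elim b 0, Matrix.toBlocks₁₁, Matrix.one_apply, apply_ite lam]
  · simp [R, ctr, Subsingleton.elim a 0, Matrix.one_apply, apply_ite lam]
    linear_combination (-M (Sum.inl 0) (Sum.inr b)) * hw
  · simp [R, ctr, Subsingleton.elim b 0, Matrix.one_apply, apply_ite lam]
    have h1 := hm (Sum.inr a) (Sum.inl 0)
    rw [hlw, ← hc]
    linear_combination (-(ε * lam (M (Sum.inl 0) (Sum.inr a)))) * hw - h1
  · simp [R, ctr, Matrix.one_apply, apply_ite lam]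
    linear_combination (lam w * lam (M (Sum.inl 0) (Sum.inr a)) * M (Sum.inl 0) (Sum.inr b)) * hw

theorem exists_step (hl : Function.Involutive lam) {ε : A} (hε : ε * ε = 1) {n : ℕ}
    {h : Matrix (Fin (n + 1)) (Fin (n + 1)) A} (hh : IsUnit h.det) (herm : ε • ctr lam h = h)
    (e : Fin 1 ⊕ Fin n ≃ Fin (n + 1)) {M : Matrix (Fin 1 ⊕ Fin n) (Fin 1 ⊕ Fin n) A}
    (hM : HC lam (h.submatrix e e) M) (hu : IsUnit (M (Sum.inl 0) (Sum.inl 0))) :
    ∃ (A0 : Matrix (Fin 1) (Fin 1) A) (S : Matrix (Fin n) (Fin n) A), IsUnit S.det ∧ ε • ctr lam S = S ∧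
      HC lam (h.submatrix e e) (Matrix.fromBlocks A0 0 0 S) ∧ IsUnit (A0 0 0) ∧
      ∃ w : A, w * M (Sum.inl 0) (Sum.inl 0) = 1 ∧ ∀ a b, S a b =
        M (Sum.inr a) (Sum.inr b) - M (Sum.inr a) (Sum.inl 0) * w * M (Sum.inl 0) (Sum.inr b) := by
  obtain ⟨w, hw⟩ := hu.exists_left_inv
  have hh' : IsUnit (h.submatrix e e).det := by rwa [Matrix.det_submatrix_equiv_self]
  have herm' : ε • ctr lam (h.submatrix e e) = h.submatrix e e := by
    conv_rhs => rw [← herm]
    rfl
  have hd := hM.trans (exists_schur hl hε (hM.herm hl herm') hw)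
  have hdet := hd.isUnit_det hh'
  rw [Matrix.det_fromBlocks_zero₁₂] at hdet
  refine ⟨_, _, isUnit_of_mul_isUnit_right hdet, ?_, hd, hu, w, hw, fun a b => rfl⟩
  ext a b
  exact congrFun (congrFun (hd.herm hl herm') (Sum.inr a)) (Sum.inr b)

theorem exists_good_step (hl : Function.Involutive lam) {ε : A} (hε : ε * ε = 1)
    (hG : IsLocalRing A ∨ ∀ (m : ℕ) (g : Matrix (Fin (m + 1)) (Fin (m + 1)) A),
      IsUnit g.det → ε • ctr lam g = g → HasUnit lam g) {n : ℕ}
    {h : Matrix (Fin (n + 1)) (Fin (n + 1)) A} (hh : IsUnit h.det) (herm : ε • ctr lam h = h) (hP : HasUnit lam h) :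
    ∃ (e : Fin 1 ⊕ Fin n ≃ Fin (n + 1)) (A0 : Matrix (Fin 1) (Fin 1) A) (S : Matrix (Fin n) (Fin n) A),
      IsUnit S.det ∧ ε • ctr lam S = S ∧ HC lam (h.submatrix e e) (Matrix.fromBlocks A0 0 0 S) ∧
      (n = 0 ∨ HasUnit lam S) := by
  obtain ⟨e, M, hM, hu⟩ := exists_corner hP
  obtain ⟨A0, S, hS, hSh, hd, hA0, -⟩ := exists_step hl hε hh herm e hM hu
  cases n with
  | zero => exact ⟨e, A0, S, hS, hSh, hd, Or.inl rfl⟩
  | succ n =>
    by_cases hSP : HasUnit lam S
    · exact ⟨e, A0, S, hS, hSh, hd, Or.inr hSP⟩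
    rcases hG with hloc | hG
    swap
    · exact absurd (hG n S hS hSh) hSP
    have hdiag : ∀ k, ¬ IsUnit (S k k) := fun k hk => hSP (hasUnit_of_diag k hk)
    obtain ⟨k, hk⟩ : ∃ k, IsUnit (S 0 k) := by
      by_contra hc
      push Not at hc
      refine (IsLocalRing.mem_maximalIdeal S.det).1 ?_ hS
      rw [Matrix.det_succ_row_zero]
      exact Ideal.sum_mem _ fun k _ => Ideal.mul_mem_right _ _ (Ideal.mul_mem_left _ _ (hc k))
    have hk0 : k ≠ 0 := by rintro rfl; exact hdiag 0 hk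
    set N := Matrix.fromBlocks A0 0 0 S with hN
    have hne : (Sum.inr 0 : Fin 1 ⊕ Fin (n + 1)) ≠ Sum.inl 0 := by simp
    let V : Matrix (Fin 1 ⊕ Fin (n + 1)) (Fin 1 ⊕ Fin (n + 1)) A :=
      Matrix.transvection (Sum.inr 0) (Sum.inl 0) 1
    have hV : ctr lam V = Matrix.transvection (Sum.inl 0) (Sum.inr 0) 1 := by
      ext p q
      simp [V, ctr, Matrix.transvection, Matrix.single, Matrix.one_apply, apply_ite lam, eq_comm, and_comm]
    let M' := ctr lam V * N * V
    have hM' : HC lam (h.submatrix e e) M' :=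
      hd.trans ⟨V, by simp [V, Matrix.det_transvection_of_ne _ _ hne], rfl⟩
    have h00 : M' (Sum.inl 0) (Sum.inl 0) = A0 0 0 + S 0 0 := by
      simp [M', hV, V, Matrix.mul_transvection_apply_same, Matrix.transvection_mul_apply_same, hN]
    have hbad : ¬ IsUnit (S 0 0) := hdiag 0
    have hu' : IsUnit (M' (Sum.inl 0) (Sum.inl 0)) := by
      rw [h00]
      by_contra hc
      have h1 : A0 0 0 ∈ IsLocalRing.maximalIdeal A := by
        simpa using Ideal.sub_mem _ ((IsLocalRing.mem_maximalIdeal _).2 hc) ((IsLocalRing.mem_maximalIdeal _).2 hbad)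
      exact (IsLocalRing.mem_maximalIdeal _).1 h1 hA0
    obtain ⟨A1, S', hS', hSh', hd', -, w, hw, hS'e⟩ := exists_step hl hε hh herm e hM' hu'
    refine ⟨e, A1, S', hS', hSh', hd', Or.inr (hasUnit_of_diag k ?_)⟩
    have hkk : M' (Sum.inr k) (Sum.inr k) = S k k := by
      simp [M', hV, V, Matrix.mul_transvection_apply_of_ne, Matrix.transvection_mul_apply_of_ne, hN, hk0]
    have hk1 : M' (Sum.inl 0) (Sum.inr k) = S 0 k := by
      simp [M', hV, V, Matrix.mul_transvection_apply_of_ne, Matrix.transvection_mul_apply_same, hN, hk0]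
    have hk2 : M' (Sum.inr k) (Sum.inl 0) = S k 0 := by
      simp [M', hV, V, Matrix.mul_transvection_apply_same, Matrix.transvection_mul_apply_of_ne, hN, hk0]
    have hk' : IsUnit (S k 0) := by
      have h1 : ε * lam (S 0 k) = S k 0 := by simpa [ctr] using congrFun (congrFun hSh k) 0
      rw [← h1]; exact (IsUnit.of_mul_eq_one _ hε).mul (hk.map lam)
    rw [hS'e, hkk, hk1, hk2]
    by_contra hc
    have h1 : S k 0 * w * S 0 k ∈ IsLocalRing.maximalIdeal A := by
      simpa using Ideal.sub_mem _ ((IsLocalRing.mem_maximalIdeal _).2 (hdiag k)) ((IsLocalRing.mem_maximalIdeal _).2 hc)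
    exact (IsLocalRing.mem_maximalIdeal _).1 h1 ((hk'.mul (IsUnit.of_mul_eq_one _ hw)).mul hk)

theorem exists_diagonal (hl : Function.Involutive lam) {ε : A} (hε : ε * ε = 1)
    (hG : IsLocalRing A ∨ ∀ (m : ℕ) (g : Matrix (Fin (m + 1)) (Fin (m + 1)) A),
      IsUnit g.det → ε • ctr lam g = g → HasUnit lam g) :
    ∀ (n : ℕ) (h : Matrix (Fin n) (Fin n) A), IsUnit h.det → ε • ctr lam h = h → (n = 0 ∨ HasUnit lam h) →
      ∃ d, HC lam h (Matrix.diagonal d) := by
  intro n
  induction n with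
  | zero => exact fun h _ _ _ => ⟨0, 1, by simp, Subsingleton.elim _ _⟩
  | succ n ih =>
    intro h hh herm hP
    obtain ⟨e, A0, S, hS, hSh, hd, hSP⟩ := exists_good_step hl hε hG hh herm (hP.resolve_left n.succ_ne_zero)
    obtain ⟨d, v, hv, hvd⟩ := ih S hS hSh hSP
    refine ⟨Sum.elim (fun _ => A0 0 0) d ∘ e.symm, ?_⟩
    have h2 : HC lam (Matrix.fromBlocks A0 0 0 S) (Matrix.diagonal (Sum.elim (fun _ => A0 0 0) d)) := by
      refine ⟨Matrix.fromBlocks 1 0 0 v, by simpa [Matrix.det_fromBlocks_zero₁₂] using hv, ?_⟩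
      have hb : ctr lam (Matrix.fromBlocks (1 : Matrix (Fin 1) (Fin 1) A) 0 0 v) =
          Matrix.fromBlocks 1 0 0 (ctr lam v) := by
        rw [ctr, Matrix.fromBlocks_map, Matrix.fromBlocks_transpose, Matrix.map_zero _ (map_zero lam),
          Matrix.map_zero _ (map_zero lam), Matrix.transpose_zero, Matrix.transpose_zero,
          Matrix.map_one _ (map_zero lam) (map_one lam), Matrix.transpose_one]
      have hA0 : A0 = Matrix.diagonal fun _ => A0 0 0 := by
        ext a b; simp [Subsingleton.elim a 0, Subsingleton.elim b 0]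
      rw [hb, Matrix.fromBlocks_multiply, Matrix.fromBlocks_multiply, hA0, ← Matrix.fromBlocks_diagonal]
      simp [hvd]
    have h3 := (hd.trans h2).submatrix e.symm
    rwa [Matrix.submatrix_submatrix, Equiv.self_comp_symm, Matrix.submatrix_id_id,
      Matrix.submatrix_diagonal_equiv] at h3

section FixedRing

variable {B : Type u} [CommRing B] [Algebra B A] [IsLocalRing B]

theorem isUnit_of_herm (hl : Function.Involutive lam) (hB : RInv.IsFixedRing B A lam) {ε x : A} (hε : ε * ε = 1)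
    (hx : ε * lam x = x) {q : Ideal A} [q.IsMaximal] (hxq : x ∉ q) : IsUnit x := by
  by_contra hu
  obtain ⟨q', hq', hmem⟩ := exists_max_ideal_of_mem_nonunits hu
  rcases maximal_eq hl hB q q' with rfl | rfl
  · exact hxq hmem
  · exact hxq (hx ▸ q.mul_mem_left ε (mem_conj.1 hmem))

theorem hasUnit_of_herm (hl : Function.Involutive lam) (hB : RInv.IsFixedRing B A lam) {ε : A} (hε : ε * ε = 1)
    (hlε : lam ε = ε)
    (hcase : (∃ a : A, lam a - a ∉ Ring.jacobson A) ∨ (ε = 1 ∧ IsUnit (2 : A)))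
    {n : ℕ} {h : Matrix (Fin (n + 1)) (Fin (n + 1)) A} (hh : IsUnit h.det) (herm : ε • ctr lam h = h) :
    HasUnit lam h := by
  by_cases hd : ∃ i, IsUnit (h i i)
  · obtain ⟨i, hi⟩ := hd
    exact hasUnit_of_diag i hi
  push Not at hd
  haveI := nontrivial hB
  obtain ⟨q, hq⟩ := Ideal.exists_maximal A
  have hm : ∀ i j, ε * lam (h j i) = h i j := fun i j => by
    simpa [ctr] using congrFun (congrFun herm i) j
  have hdq : ∀ i, h i i ∈ q := fun i => by_contra fun hc => hd i (isUnit_of_herm hl hB hε (hm i i) hc)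
  obtain ⟨j, hj⟩ : ∃ j, h 0 j ∉ q := by
    by_contra hc
    push Not at hc
    refine hq.ne_top (Ideal.eq_top_of_isUnit_mem _ ?_ hh)
    rw [Matrix.det_succ_row_zero]
    exact Ideal.sum_mem _ fun k _ => Ideal.mul_mem_right _ _ (Ideal.mul_mem_left _ _ (hc k))
  have hj0 : j ≠ 0 := by rintro rfl; exact hj (hdq 0)
  -- a scalar making the value nonzero modulo `q`
  obtain ⟨a, ha⟩ : ∃ a : A, a * h 0 j + ε * lam (a * h 0 j) ∉ q := by
    by_contra hc
    push Not at hc
    by_cases hc' : ∃ a : A, lam a - a ∉ Ring.jacobson A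
    · obtain ⟨r, hr⟩ := exists_unit_of_notMem_jacobson hl hB hc'
      refine hj ?_
      have h1 : (r - lam r) * h 0 j ∈ q := by
        have e1 := hc r
        have e2 := q.mul_mem_left (lam r) (hc 1)
        rw [map_mul] at e1
        rw [one_mul] at e2
        have := q.sub_mem e1 e2
        rwa [show r * h 0 j + ε * (lam r * lam (h 0 j)) - lam r * (h 0 j + ε * lam (h 0 j)) =
          (r - lam r) * h 0 j by ring] at this
      exact (hq.isPrime.mem_or_mem h1).resolve_left fun hc2 => hq.ne_top (Ideal.eq_top_of_isUnit_mem _ hc2 hr)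
    · obtain ⟨rfl, h2⟩ := hcase.resolve_left hc'
      push Not at hc'
      have h1 := hc 1
      rw [one_mul, one_mul] at h1
      have h4 : (2 : A) * h 0 j ∈ q := by
        have := q.sub_mem h1 (mem_jacobson_iff.1 (hc' (h 0 j)) q hq)
        rwa [show h 0 j + lam (h 0 j) - (lam (h 0 j) - h 0 j) = 2 * h 0 j by ring] at this
      exact hj ((hq.isPrime.mem_or_mem h4).resolve_left fun hc2 => hq.ne_top (Ideal.eq_top_of_isUnit_mem _ hc2 h2))
  have hval : (fun k => lam ((Pi.single 0 1 + Pi.single j a : Fin (n + 1) → A) k)) ⬝ᵥ h *ᵥ (Pi.single 0 1 + Pi.single j a) =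
      h 0 0 + lam a * a * h j j + (a * h 0 j + ε * lam (a * h 0 j)) := by
    have hv : (fun k => lam ((Pi.single 0 1 + Pi.single j a : Fin (n + 1) → A) k)) = Pi.single 0 1 + Pi.single j (lam a) := by
      funext k
      simp only [Pi.add_apply, map_add, Pi.single_apply, apply_ite lam, map_zero, map_one]
    rw [hv, map_mul]
    simp [Matrix.mulVec_add, dotProduct_add, add_dotProduct, Matrix.mulVec_single]
    linear_combination (-lam a) * hm j 0
  refine ⟨0, Pi.single 0 1 + Pi.single j a, by simp [hj0], ?_⟩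
  rw [hval]
  refine isUnit_of_herm hl hB hε ?_ (q := q) ?_
  · simp only [map_add, map_mul, hl a, hl _]
    rw [hlε]
    linear_combination hm 0 0 + lam a * a * hm j j + (a * h 0 j + 0) * hε
  · intro hc
    exact ha (by simpa using q.sub_mem hc (q.add_mem (hdq 0) (q.mul_mem_left (lam a * a) (hdq j))))

/-- odd rank: some diagonal entry is a unit -/
theorem hasUnit_of_odd [IsLocalRing A] (hid : ∀ a : A, lam a - a ∈ Ring.jacobson A) {ε : A}
    (hε1 : ε + 1 ∈ Ring.jacobson A) {n : ℕ} (hn : Odd n) {h : Matrix (Fin n) (Fin n) A} (hh : IsUnit h.det)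
    (herm : ε • ctr lam h = h) : HasUnit lam h := by
  by_contra hP
  let π := IsLocalRing.residue A
  have hz : ∀ x ∈ Ring.jacobson A, π x = 0 := fun x hx =>
    (IsLocalRing.residue_eq_zero_iff x).2 (mem_jacobson_iff.1 hx _ (IsLocalRing.maximalIdeal.isMaximal A))
  have hd : ∀ i, π (h i i) = 0 := fun i =>
    (IsLocalRing.residue_eq_zero_iff _).2 ((IsLocalRing.mem_maximalIdeal _).2 fun hu => hP (hasUnit_of_diag i hu))
  have hskew : ∀ i j, π (h i j) = -π (h j i) := fun i j => by
    have h1 : ε * lam (h j i) = h i j := by simpa [ctr] using congrFun (congrFun herm i) j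
    have h2 := hz _ hε1
    have h3 := hz _ (hid (h j i))
    rw [map_add, map_one] at h2
    rw [map_sub] at h3
    rw [← h1, map_mul]
    linear_combination π (lam (h j i)) * h2 - h3
  have hdet : (π.mapMatrix h).det = 0 := by
    by_cases h2 : (2 : IsLocalRing.ResidueField A) = 0
    · refine Groth.Agent.QuadH13.det_eq_zero_of_alternating (fun x => by rw [← two_mul, h2, zero_mul]) _
        (fun i j => ?_) hd hn
      change π (h i j) = π (h j i)
      linear_combination hskew i j - π (h j i) * h2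
    · have h1 : (π.mapMatrix h).transpose = -(π.mapMatrix h) := by
        ext i j
        change π (h j i) = -π (h i j)
        exact hskew j i
      have h3 := congrArg Matrix.det h1
      rw [Matrix.det_transpose, Matrix.det_neg, Fintype.card_fin, hn.neg_one_pow] at h3
      exact (mul_eq_zero.1 (by linear_combination h3 : (2 : IsLocalRing.ResidueField A) * (π.mapMatrix h).det = 0)).resolve_left h2
  rw [← RingHom.map_det] at hdet
  exact (hh.map π).ne_zero hdet

end FixedRing

end RInv29
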