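import Mathlib

/-!
# Spreading out from a localisation
-/

set_option autoImplicit false
set_option linter.style.haveILetI false

universe u v w

open scoped TensorProduct

namespace RInv29

variable {B : Type u} [CommRing B] (M : Submonoid B)

/-- `T` is a localisation at `M` -/
def LocB {X : Type v} {Y : Type w} [CommRing X] [CommRing Y] [Algebra B X] [Algebra B Y] (T : X →ₐ[B] Y) : Prop :=
  (∀ m ∈ M, IsUnit (algebraMap B Y m)) ∧
  (∀ y, ∃ (m : B) (x : X), m ∈ M ∧ algebraMap B Y m * y = T x) ∧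
  ∀ x, T x = 0 → ∃ m ∈ M, algebraMap B X m * x = 0

variable {M}

theorem LocB.exists_common {X : Type v} {Y : Type w} [CommRing X] [CommRing Y] [Algebra B X] [Algebra B Y]
    {T : X →ₐ[B] Y} (hT : LocB M T) {ι : Type} [Fintype ι] (y : ι → Y) :
    ∃ (m : B) (x : ι → X), m ∈ M ∧ ∀ i, algebraMap B Y m * y i = T (x i) := by
  classical
  choose m x hm hx using fun i => hT.2.1 (y i)
  refine ⟨∏ i, m i, fun i => algebraMap B X (∏ j ∈ Finset.univ.erase i, m j) * x i,
    M.prod_mem fun i _ => hm i, fun i => ?_⟩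
  rw [map_mul, AlgHom.commutes, ← hx, ← mul_assoc, ← map_mul, mul_comm _ (m i),
    Finset.mul_prod_erase _ _ (Finset.mem_univ i)]

theorem LocB.exists_kill {X : Type v} {Y : Type w} [CommRing X] [CommRing Y] [Algebra B X] [Algebra B Y]
    {T : X →ₐ[B] Y} (hT : LocB M T) {ι : Type} [Fintype ι] (x : ι → X) (hx : ∀ i, T (x i) = 0) :
    ∃ m ∈ M, ∀ i, algebraMap B X m * x i = 0 := by
  classical
  choose m hm hmx using fun i => hT.2.2 (x i) (hx i)
  refine ⟨∏ i, m i, M.prod_mem fun i _ => hm i, fun i => ?_⟩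
  rw [← Finset.prod_erase_mul _ _ (Finset.mem_univ i), map_mul, mul_assoc, hmx, mul_zero]

theorem LocB.away {X : Type v} {Y : Type w} [CommRing X] [CommRing Y] [Algebra B X] [Algebra B Y]
    {T : X →ₐ[B] Y} (hT : LocB M T) {g : X} {f : Y} {m0 : B} (hm0 : m0 ∈ M) (hg : algebraMap B Y m0 * f = T g)
    (T' : Localization.Away g →ₐ[B] Localization.Away f)
    (hT' : ∀ x, T' (algebraMap X _ x) = algebraMap Y _ (T x)) : LocB M T' := by
  have hY : ∀ b, algebraMap B (Localization.Away f) b = algebraMap Y _ (algebraMap B Y b) := fun b =>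
    IsScalarTower.algebraMap_apply B Y _ b
  have hX : ∀ b, algebraMap B (Localization.Away g) b = algebraMap X _ (algebraMap B X b) := fun b =>
    IsScalarTower.algebraMap_apply B X _ b
  refine ⟨fun m hm => ?_, fun y => ?_, fun x hx => ?_⟩
  · rw [hY]; exact (hT.1 m hm).map _
  · obtain ⟨⟨z, ⟨_, n, rfl⟩⟩, hz⟩ := IsLocalization.surj (Submonoid.powers f) y
    obtain ⟨m, z0, hm, hz0⟩ := hT.2.1 z
    have hgu : IsUnit (algebraMap X (Localization.Away g) g) := IsLocalization.Away.algebraMap_isUnit g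
    obtain ⟨w, hw⟩ := (hgu.pow n).exists_left_inv
    refine ⟨m, algebraMap X _ (z0 * algebraMap B X m0 ^ n) * w, hm, ?_⟩
    have hw' : T' w * algebraMap Y (Localization.Away f) (T g) ^ n = 1 := by
      rw [← hT', ← map_pow, ← map_mul, hw, map_one]
    rw [map_mul T', hT', map_mul T, map_pow T, AlgHom.commutes, ← hz0]
    simp only [map_pow, map_mul] at hz ⊢
    rw [← hg, map_mul, mul_pow] at hw'
    rw [hY]
    linear_combination (-(algebraMap Y (Localization.Away f) (algebraMap B Y m) * y)) * hw' +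
      (T' w * algebraMap Y (Localization.Away f) (algebraMap B Y m) *
        algebraMap Y (Localization.Away f) (algebraMap B Y m0) ^ n) * hz
  · obtain ⟨⟨z, ⟨_, n, rfl⟩⟩, hz⟩ := IsLocalization.surj (Submonoid.powers g) x
    have h1 : algebraMap Y (Localization.Away f) (T z) = 0 := by
      rw [← hT', ← hz, map_mul, hx, zero_mul]
    obtain ⟨⟨_, k, rfl⟩, hk⟩ := (IsLocalization.map_eq_zero_iff (Submonoid.powers f) _ _).1 h1
    obtain ⟨m, hm, hmz⟩ := hT.2.2 (g ^ k * z) (by
      rw [map_mul, map_pow, ← hg, mul_pow, mul_assoc]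
      rw [show f ^ k * T z = 0 from hk, mul_zero])
    refine ⟨m, hm, ?_⟩
    have hgu : IsUnit (algebraMap X (Localization.Away g) g) := IsLocalization.Away.algebraMap_isUnit g
    refine ((hgu.pow k).mul (hgu.pow n)).mul_left_eq_zero.1 ?_
    have h2 := congrArg (algebraMap X (Localization.Away g)) hmz
    simp only [map_mul, map_pow, map_zero] at h2 hz
    rw [hX]
    linear_combination h2 + (algebraMap X (Localization.Away g) (algebraMap B X m) * algebraMap X (Localization.Away g) g ^ k) * hz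

theorem LocB.tensor {X : Type v} {Y : Type w} [CommRing X] [CommRing Y] [Algebra B X] [Algebra B Y]
    {T : X →ₐ[B] Y} (hT : LocB M T) (A : Type*) [CommRing A] [Algebra B A] :
    LocB M (Algebra.TensorProduct.map T (AlgHom.id B A)) := by
  haveI : IsLocalizedModule M T.toLinearMap := by
    refine ⟨fun m => ?_, fun y => ?_, fun {x x'} h => ?_⟩
    · rw [Module.End.isUnit_iff]
      obtain ⟨u, hu⟩ := hT.1 m m.2
      refine ⟨fun a b hab => ?_, fun y => ⟨↑u⁻¹ * y, ?_⟩⟩
      · simp only [Module.algebraMap_end_apply, Algebra.smul_def, ← hu] at hab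
        exact u.isUnit.mul_left_cancel hab
      · simp only [Module.algebraMap_end_apply, Algebra.smul_def, ← hu, Units.mul_inv_cancel_left]
    · obtain ⟨m, x, hm, hx⟩ := hT.2.1 y
      exact ⟨⟨x, ⟨m, hm⟩⟩, by rw [Submonoid.smul_def, Algebra.smul_def]; exact hx⟩
    · obtain ⟨m, hm, hmx⟩ := hT.2.2 (x - x') (by rw [map_sub]; exact sub_eq_zero.2 h)
      refine ⟨⟨m, hm⟩, ?_⟩
      rw [Submonoid.smul_def, Submonoid.smul_def, Algebra.smul_def, Algebra.smul_def]
      linear_combination hmx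
  haveI hloc : IsLocalizedModule M (T.toLinearMap.rTensor A) :=
    inferInstanceAs (IsLocalizedModule M (TensorProduct.AlgebraTensorModule.rTensor B A T.toLinearMap))
  have hmap : ∀ z, T.toLinearMap.rTensor A z = Algebra.TensorProduct.map T (AlgHom.id B A) z := fun z => rfl
  refine ⟨fun m hm => ?_, fun y => ?_, fun z hz => ?_⟩
  · rw [IsScalarTower.algebraMap_apply B Y (Y ⊗[B] A)]; exact (hT.1 m hm).map _
  · obtain ⟨⟨z, m⟩, hz⟩ := IsLocalizedModule.surj M (T.toLinearMap.rTensor A) y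
    exact ⟨m, z, m.2, by rw [← Algebra.smul_def, ← hmap]; exact hz⟩
  · obtain ⟨m, hm⟩ := IsLocalizedModule.exists_of_eq (S := M) (f := T.toLinearMap.rTensor A) (x₁ := z) (x₂ := 0)
      (by rw [map_zero, hmap, hz])
    exact ⟨m, m.2, by rw [← Algebra.smul_def]; simpa [Submonoid.smul_def] using hm⟩

/-- quotients of polynomial rings -/
theorem locB_quot (Bp : Type w) [CommRing Bp] [Algebra B Bp] [IsLocalization M Bp] {σ : Type} (J : Ideal (MvPolynomial σ B))
    (J' : Ideal (MvPolynomial σ Bp)) (hJ : J.map (MvPolynomial.map (algebraMap B Bp)) = J')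
    (T : (MvPolynomial σ B ⧸ J) →ₐ[B] (MvPolynomial σ Bp ⧸ J'))
    (hT : ∀ P, T (Ideal.Quotient.mk J P) = Ideal.Quotient.mk J' (MvPolynomial.map (algebraMap B Bp) P)) :
    LocB M T := by
  letI : Algebra (MvPolynomial σ B) (MvPolynomial σ Bp) := MvPolynomial.algebraMvPolynomial
  haveI := MvPolynomial.isLocalization (σ := σ) M Bp
  refine ⟨fun m hm => ?_, fun y => ?_, fun x hx => ?_⟩
  · rw [IsScalarTower.algebraMap_apply B Bp (MvPolynomial σ Bp ⧸ J')]
    exact (IsLocalization.map_units Bp ⟨m, hm⟩).map _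
  · obtain ⟨P, rfl⟩ := Ideal.Quotient.mk_surjective y
    obtain ⟨⟨P0, ⟨_, m, hm, rfl⟩⟩, h0⟩ := IsLocalization.surj (M.map (MvPolynomial.C (σ := σ))) P
    refine ⟨m, Ideal.Quotient.mk J P0, hm, ?_⟩
    rw [hT, IsScalarTower.algebraMap_apply B (MvPolynomial σ Bp) (MvPolynomial σ Bp ⧸ J'),
      Ideal.Quotient.algebraMap_eq, ← map_mul]
    congr 1
    rw [MvPolynomial.algebraMap_def, MvPolynomial.map_C, mul_comm] at h0
    exact h0
  · obtain ⟨P0, rfl⟩ := Ideal.Quotient.mk_surjective x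
    rw [hT, Ideal.Quotient.eq_zero_iff_mem, ← hJ] at hx
    obtain ⟨_, ⟨m, hm, rfl⟩, h0⟩ :=
      (IsLocalization.algebraMap_mem_map_algebraMap_iff (M.map (MvPolynomial.C (σ := σ))) (MvPolynomial σ Bp) J P0).1 hx
    refine ⟨m, hm, ?_⟩
    rw [IsScalarTower.algebraMap_apply B (MvPolynomial σ B) (MvPolynomial σ B ⧸ J), Ideal.Quotient.algebraMap_eq,
      ← map_mul, Ideal.Quotient.eq_zero_iff_mem]
    exact h0

/-- lifting to the localisation away from an element -/
theorem exists_away_lift {X : Type v} {Y : Type w} [CommRing X] [CommRing Y] [Algebra B X] [Algebra B Y]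
    (T : X →ₐ[B] Y) (C : Type*) [CommRing C] [Algebra B C] [Algebra Y C] [IsScalarTower B Y C] (g : X)
    (hg : IsUnit (algebraMap Y C (T g))) :
    ∃ U : Localization.Away g →ₐ[B] C, ∀ x, U (algebraMap X _ x) = algebraMap Y C (T x) := by
  let ψ : X →+* C := (algebraMap Y C).comp T.toRingHom
  have hψ : IsUnit (ψ g) := hg
  let U : Localization.Away g →+* C := IsLocalization.Away.lift g (g := ψ) hψ
  have hU : ∀ x, U (algebraMap X _ x) = algebraMap Y C (T x) := fun x => IsLocalization.Away.lift_eq g hψ x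
  refine ⟨{ U with commutes' := fun b => ?_ }, hU⟩
  change U _ = _
  rw [IsScalarTower.algebraMap_apply B X (Localization.Away g), hU, AlgHom.commutes, ← IsScalarTower.algebraMap_apply]

theorem descend {n : ℕ} {D : Type v} {E : Type w} [CommRing D] [CommRing E] (φ : D →+* E) (σ : D →+* D) (τ : E →+* E)
    (hc : ∀ z, φ (σ z) = τ (φ z)) {X H H' : Matrix (Fin n) (Fin n) D} {v : Matrix (Fin n) (Fin n) E} {μ : D}
    (hX : X.map φ = φ μ • v) (hτ : τ (φ μ) = φ μ) (hv : (v.map τ).transpose * H.map φ * v = H'.map φ) :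
    ((X.map σ).transpose * H * X - (μ * μ) • H').map φ = 0 := by
  have e1 : (X.map σ).map φ = φ μ • v.map τ := by
    rw [Matrix.map_map, show (⇑φ ∘ ⇑σ) = ⇑τ ∘ ⇑φ from funext hc, ← Matrix.map_map, hX,
      Matrix.map_smul' _ _ _ (map_mul τ), hτ]
  rw [Matrix.map_sub _ (map_sub φ), Matrix.map_mul, Matrix.map_mul, Matrix.map_smul' _ _ _ (map_mul φ),
    Matrix.transpose_map, e1, hX, Matrix.transpose_smul, Matrix.smul_mul, Matrix.smul_mul, Matrix.mul_smul,
    smul_smul, hv, map_mul, sub_self]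

theorem descend_inv {n : ℕ} {D : Type v} {E : Type w} [CommRing D] [CommRing E] (φ : D →+* E)
    {X X' : Matrix (Fin n) (Fin n) D} {v v' : Matrix (Fin n) (Fin n) E} {μ : D}
    (hX : X.map φ = φ μ • v) (hX' : X'.map φ = φ μ • v') (hv : v * v' = 1) :
    (X * X' - (μ * μ) • (1 : Matrix (Fin n) (Fin n) D)).map φ = 0 := by
  rw [Matrix.map_sub _ (map_sub φ), Matrix.map_mul, Matrix.map_smul' _ _ _ (map_mul φ),
    Matrix.map_one _ (map_zero φ) (map_one φ), hX, hX', Matrix.smul_mul, Matrix.mul_smul, smul_smul, hv, map_mul,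
    sub_self]

theorem ascend {n : ℕ} {D : Type v} {E : Type w} [CommRing D] [CommRing E] (φ : D →+* E) (σ : D →+* D) (τ : E →+* E)
    (hc : ∀ z, φ (σ z) = τ (φ z)) {X X' H H' : Matrix (Fin n) (Fin n) D} {μ k : D}
    (hk : IsUnit (φ k)) (hμ : IsUnit (φ μ)) (hτ : τ (φ μ) = φ μ)
    (h1 : k • ((X.map σ).transpose * H * X - (μ * μ) • H') = 0)
    (h2 : k • (X * X' - (μ * μ) • (1 : Matrix (Fin n) (Fin n) D)) = 0) :
    ∃ v : Matrix (Fin n) (Fin n) E, IsUnit v ∧ (v.map τ).transpose * H.map φ * v = H'.map φ := by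
  obtain ⟨w, hw⟩ := hμ.exists_left_inv
  have hτw : τ w = w := by
    have e1 : τ w * φ μ = 1 := by
      have := congrArg τ hw; rwa [map_mul, hτ, map_one] at this
    linear_combination w * e1 - τ w * hw
  have g1 := congrArg (fun z : Matrix (Fin n) (Fin n) D => z.map φ) h1
  have g2 := congrArg (fun z : Matrix (Fin n) (Fin n) D => z.map φ) h2
  simp only [Matrix.map_smul' _ _ _ (map_mul φ), Matrix.map_zero _ (map_zero φ), hk.smul_eq_zero] at g1 g2
  rw [Matrix.map_sub _ (map_sub φ), sub_eq_zero, Matrix.map_mul, Matrix.map_mul, Matrix.map_smul' _ _ _ (map_mul φ),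
    Matrix.transpose_map, Matrix.map_map, show (⇑φ ∘ ⇑σ) = ⇑τ ∘ ⇑φ from funext hc, ← Matrix.map_map] at g1
  rw [Matrix.map_sub _ (map_sub φ), sub_eq_zero, Matrix.map_mul, Matrix.map_smul' _ _ _ (map_mul φ),
    Matrix.map_one _ (map_zero φ) (map_one φ)] at g2
  have hwμ : w * w * φ (μ * μ) = 1 := by rw [map_mul]; linear_combination (w * φ μ + 1) * hw
  refine ⟨w • X.map φ, ?_, ?_⟩
  · have h3 : (w • X.map φ) * (w • X'.map φ) = 1 := by
      rw [Matrix.smul_mul, Matrix.mul_smul, smul_smul, g2, smul_smul, hwμ, one_smul]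
    exact (Matrix.isUnit_iff_isUnit_det _).2 (IsUnit.of_mul_eq_one _ (by rw [← Matrix.det_mul, h3, Matrix.det_one]))
  · rw [Matrix.map_smul' _ _ _ (map_mul τ), hτw, Matrix.transpose_smul, Matrix.smul_mul, Matrix.smul_mul,
      Matrix.mul_smul, smul_smul, g1, smul_smul, hwμ, one_smul]

end RInv29
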